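import Groth.Agent.HodgeCI.WedgeDual
import Groth.Agent.ExtFund.SmoothDual
import Groth.Agent.S11316
import Groth.Agent.CohFinite.Proper
import Groth.Agent.CurveRR.Curve

/-!
# Serre duality for the sheaves of forms
-/

set_option autoImplicit false
set_option backward.isDefEq.respectTransparency false
set_option backward.isDefEq.respectTransparency.types false
set_option linter.style.haveILetI false
set_option linter.unusedSectionVars false
set_option maxHeartbeats 1000000

universe u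

open CategoryTheory CategoryTheory.Limits AlgebraicGeometry

noncomputable section

namespace Groth.Agent.HodgeCI

variable {k : Type u} [Field k] {N n : ℕ} {X : Scheme.{u}} [X.Over (Spec (CommRingCat.of k))]
  (ι : X ⟶ CohB1.ProjSpace N k) [IsClosedImmersion ι]
  (hι : ι ≫ CohB1.ProjSpace.toSpec N k = X ↘ Spec (CommRingCat.of k))
  [SmoothOfRelativeDimension n (X ↘ Spec (CommRingCat.of k))]

include hι in
/-- Duality for forms: `H^q(Ω^p)` is dual to `H^(n-q)(Ω^(n-p))`. -/
theorem nonempty_dual_forms (p q : ℕ) (hp : p ≤ n) (hq : q ≤ n) {L L' : X.Modules}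
    (hL : ExtPow.IsExtPow p (Omega.sheaf (X ↘ Spec (CommRingCat.of k))) L)
    (hL' : ExtPow.IsExtPow (n - p) (Omega.sheaf (X ↘ Spec (CommRingCat.of k))) L') :
    Nonempty (Module.Dual k (Coh.HH X L q) ≃ₗ[k] Coh.HH X L' (n - q)) := by
  haveI := ExtFund.isProper_of_closed ι hι
  haveI := CurveRR.isNoetherian_of_proper k X
  haveI := W7Hull.hasSheafHom_sch L
  have hΩ := ExtFund.isFinLocFreeOfRank_omega (X ↘ Spec (CommRingCat.of k)) n
  have hΩ' := SGA6Ext.finLocFree_of_rank hΩ
  let ω := SGA6Ext.extSh (Omega.sheaf (X ↘ Spec (CommRingCat.of k))) n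
  have hω : ExtPow.IsExtPow n (Omega.sheaf (X ↘ Spec (CommRingCat.of k))) ω := SGA6Ext.isExtPow_extSh _ n hΩ'
  obtain ⟨i⟩ := iso_of_isExtPow hL (SGA6Ext.isExtPow_extSh _ p hΩ')
  have hLf : FlatMod.IsFinLocFree L := DQCoh.isFinLocFree_of_iso' i.symm (SGA6Ext.isFinLocFree_extSh _ p hΩ')
  obtain ⟨j⟩ := nonempty_wedge_dual hΩ hp hL hL' hω
  obtain ⟨t, ht⟩ := ExtFund.exists_trace_smooth ι hι ω hω
  obtain ⟨e⟩ := SerrePn.duality_vb ι hι
    (fun x hx => ExtFund.cm_dim_of_smooth (X ↘ Spec (CommRingCat.of k)) n x hx)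
    ω (ExtFund.isCoh_top ι hι hω) t ht L hLf q hq
  exact ⟨e.trans (CohFinite.hhEquiv k j.symm (n - q))⟩

include hι in
theorem finrank_forms_symm (p q : ℕ) (hp : p ≤ n) (hq : q ≤ n) {L L' : X.Modules}
    (hL : ExtPow.IsExtPow p (Omega.sheaf (X ↘ Spec (CommRingCat.of k))) L)
    (hL' : ExtPow.IsExtPow (n - p) (Omega.sheaf (X ↘ Spec (CommRingCat.of k))) L') :
    Module.finrank k (Coh.HH X L q) = Module.finrank k (Coh.HH X L' (n - q)) := by
  haveI := ExtFund.isProper_of_closed ι hι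
  haveI := CurveRR.isNoetherian_of_proper k X
  obtain ⟨e⟩ := nonempty_dual_forms ι hι p q hp hq hL hL'
  rw [← e.finrank_eq]
  exact Subspace.dual_finrank_eq.symm

end Groth.Agent.HodgeCI
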