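import Groth.Agent.HodgeCI.CIFacts
import Groth.Agent.HodgeCI.Duality
import Groth.Agent.ExtFund.Adjunction
import Groth.Agent.FreeJ.Grothendieck

/-!
# Hodge cohomology of smooth complete intersections
-/

set_option autoImplicit false
set_option backward.isDefEq.respectTransparency false
set_option backward.isDefEq.respectTransparency.types false
set_option linter.style.haveILetI false
set_option linter.unusedSectionVars false
set_option maxHeartbeats 1000000

universe u

open CategoryTheory CategoryTheory.Limits AlgebraicGeometry TopologicalSpace Opposite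
open Groth.Agent.CohFinite (hhMap hhEquiv)
open Groth.Agent.SGA6Ext

noncomputable section

namespace Groth.Agent.HodgeCI

/-- Exterior powers above the rank vanish. -/
theorem isZero_extPow_of_rank {X : Scheme.{u}} {E L : X.Modules} {n p : ℕ} (hE : FlatMod.IsFinLocFreeOfRank n E)
    (hp : n < p) (hL : ExtPow.IsExtPow p E L) : IsZero L := by
  obtain ⟨i⟩ := iso_of_isExtPow hL (isExtPow_extSh E p (finLocFree_of_rank hE))
  refine IsZero.of_iso (isZero_of_rank_zero (W7Strat.isFinLocFreeOfRank_of_frames fun x => ?_)) i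
  obtain ⟨U, e, hx, he⟩ := CurveRR.exists_frame hE x
  obtain ⟨f, hf⟩ := exists_frame_extSh _ p he
  revert f
  rw [Nat.choose_eq_zero_of_lt hp]
  exact fun f hf => ⟨U, f, hx, hf⟩

variable {k : Type u} [Field k]

/-- Cohomology above the dimension of a smooth projective scheme. -/
theorem subsingleton_above_dim {n : ℕ} {X : Scheme.{u}} [X.Over (Spec (CommRingCat.of k))]
    [SmoothOfRelativeDimension n (X ↘ Spec (CommRingCat.of k))] [IsProper (X ↘ Spec (CommRingCat.of k))]
    (M : X.Modules) (q : ℕ) (hq : n < q) : Subsingleton (Coh.HH X M q) := by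
  haveI := CurveRR.isNoetherian_of_proper k X
  refine FreeJ.vanishes (n + 1) X.carrier ?_ (Coh.toAb M) q hq
  refine lt_of_le_of_lt (ExtFund.topologicalKrullDim_le_of_smooth (X ↘ Spec (CommRingCat.of k)) n) ?_
  exact_mod_cast Nat.lt_succ_self n

variable {n d : ℕ} {a : Fin d → ℕ} (ha : ∀ j, 1 ≤ a j) (G : ∀ j, LefPen.Form (n + d) k (a j))
  [(LefPen.ciIdeal G).subscheme.Over (Spec (CommRingCat.of k))]
  (hover : (LefPen.ciIdeal G).subscheme ↘ Spec (CommRingCat.of k) =
    (LefPen.ciIdeal G).subschemeι ≫ CohB1.ProjSpace.toSpec (n + d) k)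
  [SmoothOfRelativeDimension n ((LefPen.ciIdeal G).subscheme ↘ Spec (CommRingCat.of k))]

include ha hover in
theorem good_over : CompInt.Good (LefPen.ciIdeal G).subschemeι n := by
  haveI : SmoothOfRelativeDimension n ((LefPen.ciIdeal G).subschemeι ≫ CohB1.ProjSpace.toSpec (n + d) k) := by
    rw [← hover]; infer_instance
  exact good_of_smooth ha G

include ha hover in
/-- Below the middle: the cohomology of the forms is that of the ambient forms. -/
theorem low (hnd : 1 ≤ n + d) (j i : ℕ) (hij : j + i < n) {L : (LefPen.ciIdeal G).subscheme.Modules}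
    (hL : ExtPow.IsExtPow j (Omega.sheaf ((LefPen.ciIdeal G).subscheme ↘ Spec (CommRingCat.of k))) L) :
    (i ≠ j → Subsingleton (Coh.HH (LefPen.ciIdeal G).subscheme L i)) ∧
      (i = j → Module.finrank k (Coh.HH (LefPen.ciIdeal G).subscheme L i) = 1) := by
  haveI : SmoothOfRelativeDimension n ((LefPen.ciIdeal G).subschemeι ≫ CohB1.ProjSpace.toSpec (n + d) k) := by
    rw [← hover]; infer_instance
  have hci := isCI_of_smooth ha G
  have hgood := good_of_smooth ha G
  haveI := PnHodge.quasiSeparated_toSpec (n + d) k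
  haveI : Smooth ((LefPen.ciIdeal G).subschemeι ≫ CohB1.ProjSpace.toSpec (n + d) k) :=
    SmoothOfRelativeDimension.smooth n _
  haveI := ExtFund.isProper_of_closed _ hover.symm
  set f := (LefPen.ciIdeal G).subschemeι with hf
  obtain ⟨E, q₀, hq₀, ⟨e⟩, ⟨ε⟩⟩ := exists_pulled_euler f
  obtain ⟨w⟩ := nonempty_cancel_tw f
  obtain ⟨T, hT, h₁, h₂, h₃⟩ := ExtFund.exists_conormal_ses (CohB1.ProjSpace.toSpec (n + d) k) f
  have hM : FlatMod.IsFinLocFree ((Scheme.Modules.pullback f).obj (Omega.sheaf (CohB1.ProjSpace.toSpec (n + d) k))) :=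
    SGA6Ext.isFinLocFree_pullback f PnHodge.isFinLocFree_omega
  have hW : FlatMod.IsFinLocFree (Omega.sheaf ((LefPen.ciIdeal G).subscheme ↘ Spec (CommRingCat.of k))) :=
    finLocFree_of_rank (ExtFund.isFinLocFreeOfRank_omega _ n)
  have e₁ : Nonempty (T.X₁ ≅ ∐ fun i => CohB1.tensorPow (tw f (-1)) (a i)) := by
    obtain ⟨c⟩ := hci.nonempty_conormal_iso
    rw [h₁, Omega.conormal, hf, Scheme.IdealSheafData.ker_subschemeι]
    exact ⟨c.symm ≪≫ Sigma.mapIso fun i => (nonempty_pow_tw f (a i)).some.symm⟩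
  obtain ⟨e₁⟩ := e₁
  have hOi := isInvertible_tw f 1
  have hO := CurveRR.isFinLocFreeOfRank_one hOi
  have hneg : ∀ m q : ℕ, 1 ≤ m → q < n →
      Subsingleton (Coh.HH (LefPen.ciIdeal G).subscheme (CohB1.tensorPow (tw f (-1)) m) q) :=
    fun m q hm hq => subsingleton_pow f hgood hnd hm hq
  have hzero := fun q (h1 : 1 ≤ q) (h2 : q < n) => subsingleton_structure f hgood h1 h2
  have hamb := ambient_vanish (A := k) n (isInvertible_tw f (-1)) hO hOi w e hq₀ ε hM hneg hzero
  obtain ⟨Mj, hMj⟩ : ∃ Mj, ExtPow.IsExtPow j ((Scheme.Modules.pullback f).obj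
      (Omega.sheaf (CohB1.ProjSpace.toSpec (n + d) k))) Mj := ⟨_, isExtPow_extSh _ j hM⟩
  obtain ⟨⟨g⟩, -⟩ := quotient_forms (A := k) (isInvertible_tw f (-1)) hM hW a ha hT e₁ h₂
    (h₃.trans (by rw [hover]))
    n (fun p m q hq hm => hamb p m q (by omega) (Or.inl hm)) j 0 i hij Mj L hMj hL
  let u := hhEquiv k (SecTwist.unitorR L) i
  refine ⟨fun hne => ?_, fun heq => ?_⟩
  · haveI := hamb j 0 i (by omega) (Or.inr hne) Mj hMj
    exact (g.trans u).toEquiv.symm.subsingleton
  · subst heq
    obtain ⟨b⟩ := ambient_diag (A := k) n (isInvertible_tw f (-1)) hO hOi w e hq₀ ε hM hneg i (by omega) Mj hMj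
    haveI := hci.nonempty
    rw [← ((g.trans u).symm.trans b).symm.finrank_eq]
    exact finrank_h0_structure (by rw [hover]; exact bijective_appTop_comp f hgood (by omega))

include ha hover in
theorem hodge_ci (hd : 1 ≤ d) (j i : ℕ) {L : (LefPen.ciIdeal G).subscheme.Modules}
    (hL : ExtPow.IsExtPow j (Omega.sheaf ((LefPen.ciIdeal G).subscheme ↘ Spec (CommRingCat.of k))) L) :
    (i ≠ j → i + j ≠ n → Subsingleton (Coh.HH (LefPen.ciIdeal G).subscheme L i)) ∧
      (i = j → i ≤ n → 2 * i ≠ n → Module.finrank k (Coh.HH (LefPen.ciIdeal G).subscheme L i) = 1) := by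
  have hι : (LefPen.ciIdeal G).subschemeι ≫ CohB1.ProjSpace.toSpec (n + d) k =
      (LefPen.ciIdeal G).subscheme ↘ Spec (CommRingCat.of k) := hover.symm
  haveI := ExtFund.isProper_of_closed _ hι
  have hΩ := ExtFund.isFinLocFreeOfRank_omega ((LefPen.ciIdeal G).subscheme ↘ Spec (CommRingCat.of k)) n
  rcases lt_or_ge (j + i) n with hlt | hge
  · exact ⟨fun h _ => (low ha G hover (by omega) j i hlt hL).1 h, fun h _ _ => (low ha G hover (by omega) j i hlt hL).2 h⟩
  refine ⟨fun hne hsum => ?_, fun heq hin h2 => ?_⟩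
  · rcases lt_or_ge n j with hj | hj
    · exact PnHodge.subsingleton_hh_of_isZero (isZero_extPow_of_rank hΩ hj hL) i
    rcases lt_or_ge n i with hi | hi
    · exact subsingleton_above_dim (k := k) (n := n) L i hi
    obtain ⟨L', hL'⟩ : ∃ L', ExtPow.IsExtPow (n - j)
        (Omega.sheaf ((LefPen.ciIdeal G).subscheme ↘ Spec (CommRingCat.of k))) L' :=
      ⟨_, isExtPow_extSh _ _ (finLocFree_of_rank hΩ)⟩
    obtain ⟨e⟩ := nonempty_dual_forms _ hι j i hj hi hL hL'
    haveI := (low ha G hover (by omega) (n - j) (n - i) (by omega) hL').1 (by omega)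
    haveI : Subsingleton (Module.Dual k (Coh.HH (LefPen.ciIdeal G).subscheme L i)) := e.toEquiv.subsingleton
    exact subsingleton_of_forall_eq 0 fun x => (Module.forall_dual_apply_eq_zero_iff k x).1 fun φ => by
      rw [Subsingleton.elim φ 0, LinearMap.zero_apply]
  · subst heq
    obtain ⟨L', hL'⟩ : ∃ L', ExtPow.IsExtPow (n - i)
        (Omega.sheaf ((LefPen.ciIdeal G).subscheme ↘ Spec (CommRingCat.of k))) L' :=
      ⟨_, isExtPow_extSh _ _ (finLocFree_of_rank hΩ)⟩
    rw [finrank_forms_symm _ hι i i hin hin hL hL']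
    exact (low ha G hover (by omega) (n - i) (n - i) (by omega) hL').2 rfl

end Groth.Agent.HodgeCI
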