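import Mathlib.RingTheory.PowerSeries.WellKnown
import Mathlib.RingTheory.PowerSeries.Inverse

/-!
# The generating series of Hirzebruch genera of hypersurfaces: the algebra
-/

set_option autoImplicit false

open PowerSeries

noncomputable section

namespace Groth.Agent.HodgeCI

/-- The constant `y`. -/
abbrev yser : PowerSeries (Polynomial ℤ) := PowerSeries.C (Polynomial.X : Polynomial ℤ)

/-- `(1 + yz)^(-(m+1))`. -/
def rser (m : ℕ) : PowerSeries (Polynomial ℤ) :=
  PowerSeries.mk fun p => (-Polynomial.X) ^ p * ((m + p).choose m : Polynomial ℤ)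

/-- `(1 - z)^(m-1)`. -/
def qser (m : ℕ) : PowerSeries (Polynomial ℤ) :=
  if m = 0 then PowerSeries.mk 1 else (1 - PowerSeries.X) ^ (m - 1)

theorem rser_mul (m : ℕ) : (1 + yser * PowerSeries.X) ^ (m + 1) * rser m = 1 := by
  have h := congrArg (PowerSeries.rescale (-Polynomial.X : Polynomial ℤ))
    (PowerSeries.mk_add_choose_mul_one_sub_pow_eq_one (Polynomial ℤ) m)
  rw [map_mul, map_pow, map_sub, map_one, PowerSeries.rescale_X] at h
  have h2 : PowerSeries.rescale (-Polynomial.X : Polynomial ℤ)
      (PowerSeries.mk fun n => ((m + n).choose m : Polynomial ℤ)) = rser m := by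
    rw [PowerSeries.rescale_mk]
    rfl
  rw [h2, map_neg, neg_mul, sub_neg_eq_add] at h
  rw [mul_comm]
  exact h

theorem qser_mul (m : ℕ) : (1 - PowerSeries.X) * qser m = (1 - PowerSeries.X) ^ m := by
  rcases m with _ | m
  · rw [qser, if_pos rfl, pow_zero, mul_comm]
    exact PowerSeries.mk_one_mul_one_sub_eq_one _
  · rw [qser, if_neg (Nat.succ_ne_zero m), Nat.add_sub_cancel, pow_succ']

theorem coeff_qser_zero (i : ℕ) : PowerSeries.coeff i (qser 0) = 1 := by
  rw [qser, if_pos rfl, PowerSeries.coeff_mk]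
  rfl

theorem coeff_qser_succ (m i : ℕ) :
    PowerSeries.coeff i (qser (m + 1)) = (-1) ^ i * (m.choose i : Polynomial ℤ) := by
  rw [qser, if_neg (Nat.succ_ne_zero m), Nat.add_sub_cancel]
  have h : ((1 - PowerSeries.X) ^ m : PowerSeries (Polynomial ℤ)) =
      PowerSeries.rescale (-1) ((((1 + Polynomial.X) ^ m : Polynomial (Polynomial ℤ))) : PowerSeries (Polynomial ℤ)) := by
    rw [Polynomial.coe_pow, Polynomial.coe_add, Polynomial.coe_one, Polynomial.coe_X, map_pow, map_add, map_one,
      PowerSeries.rescale_X, map_neg, map_one, neg_one_mul, sub_eq_add_neg]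
  rw [h, PowerSeries.coeff_rescale, Polynomial.coeff_coe, Polynomial.coeff_one_add_X_pow]

theorem eq_zero_of_dvd {F : PowerSeries (Polynomial ℤ)} (h : ∀ j : ℕ, yser ^ j ∣ F) : F = 0 := by
  refine PowerSeries.ext fun n => Polynomial.ext fun d => ?_
  obtain ⟨Z, hZ⟩ := h (d + 1)
  rw [hZ, map_zero, Polynomial.coeff_zero, yser, ← map_pow, PowerSeries.coeff_C_mul]
  exact Polynomial.X_pow_dvd_iff.1 (dvd_mul_right _ _) d (Nat.lt_succ_self d)

theorem series_core (a : ℕ) (S : ℕ → PowerSeries (Polynomial ℤ))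
    (hS : ∀ j, S j + yser * S (j + 1) = rser (j * a) * qser (j * a) - rser ((j + 1) * a) * qser ((j + 1) * a)) :
    (1 - PowerSeries.X) * (1 + yser * PowerSeries.X) *
        ((1 + yser * PowerSeries.X) ^ a + yser * (1 - PowerSeries.X) ^ a) * S 0 =
      (1 + yser * PowerSeries.X) ^ a - (1 - PowerSeries.X) ^ a := by
  have hunit : IsUnit ((1 + yser * PowerSeries.X) ^ a) := by
    refine IsUnit.pow a (PowerSeries.isUnit_iff_constantCoeff.2 ?_)
    simp
  set D := (1 - PowerSeries.X) * (1 + yser * PowerSeries.X) with hD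
  set A := (1 + yser * PowerSeries.X) ^ a with hA
  set B : PowerSeries (Polynomial ℤ) := (1 - PowerSeries.X) ^ a with hB
  have key : ∀ j, D * A ^ j * (rser (j * a) * qser (j * a)) = B ^ j := fun j => by
    rw [hD, hA, hB, ← pow_mul, ← pow_mul, mul_comm a j, ← qser_mul (j * a)]
    have := rser_mul (j * a)
    rw [pow_succ] at this
    linear_combination (1 - PowerSeries.X) * qser (j * a) * this
  let E : ℕ → PowerSeries (Polynomial ℤ) := fun j => A ^ j * (D * (A + yser * B) * S j) - (A - B) * B ^ j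
  have hE : ∀ j, A * E j = -yser * E (j + 1) := fun j => by
    have h1 := hS j
    have h2 := key j
    have h3 := key (j + 1)
    rw [pow_succ, pow_succ] at h3
    simp only [E, pow_succ]
    linear_combination A ^ j * A * D * (A + yser * B) * h1 + (A + yser * B) * A * h2 - (A + yser * B) * h3
  have hpow : ∀ j, A ^ j * E 0 = (-yser) ^ j * E j := by
    intro j
    induction j with
    | zero => simp
    | succ j ih =>
      rw [pow_succ, mul_right_comm, ih, pow_succ, mul_assoc, mul_assoc, mul_comm (E j) A, hE j]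
  have hz : E 0 = 0 := eq_zero_of_dvd fun j => by
    have h : yser ^ j ∣ A ^ j * E 0 := ⟨(-1) ^ j * E j, by rw [hpow j, neg_pow]; ring⟩
    exact (IsUnit.dvd_mul_left (hunit.pow j)).1 h
  have := hz
  simp only [E, pow_zero, one_mul, mul_one, sub_eq_zero] at this
  exact this

end Groth.Agent.HodgeCI
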