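import Groth.Agent.HodgeCI.Div
import Groth.Agent.HodgeCI.CIMain
import Groth.Agent.HodgeCI.HirzSeries
import Groth.Agent.PnHodge.Dim
import Groth.Agent.CurveRR.Euler
import Groth.Agent.CurveRR.TmapR
import Groth.Agent.QuotProj.HilbQ
import Groth.Agent.FreeLite.Basic
import Groth.Agent.ProjMor.ProjSpaceBase
import Groth.Agent.PlaneCurve.Hyp
import Groth.Agent.TMul.Pullback
import Groth.Agent.FieldAmple.Basic

/-!
# Euler characteristics of twisted forms on a smooth hypersurface
-/

set_option autoImplicit false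
set_option backward.isDefEq.respectTransparency false
set_option backward.isDefEq.respectTransparency.types false
set_option linter.style.haveILetI false
set_option linter.unusedSectionVars false
set_option maxHeartbeats 1000000

universe u

open CategoryTheory CategoryTheory.Limits AlgebraicGeometry TopologicalSpace Opposite
open Groth.Agent.SGA6Ext
open Groth.Agent.CohFinite (hhMap hhEquiv tmap)

noncomputable section

namespace Groth.Agent.HodgeCI

variable {k : Type u} [Field k]

theorem euler_single {X : Scheme.{u}} [X.Over (Spec (CommRingCat.of k))] (F : X.Modules) (q : ℕ)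
    (h : ∀ i, i ≠ q → Subsingleton (Coh.HH X F i)) :
    Curv2.euler k X F = (-1 : ℤ) ^ q * (Module.finrank k (Coh.HH X F q) : ℤ) := by
  rw [CurveRR.euler_eq_sum F (q + 1) fun i hi => h i (by omega), Finset.sum_eq_single q
    (fun i hi hne => by rw [CurveRR.h_eq_zero (h i hne)]; simp)
    (fun hq => absurd (Finset.self_mem_range_succ q) hq)]

theorem euler_of_hh_equiv {X Y : Scheme.{u}} [X.Over (Spec (CommRingCat.of k))] [Y.Over (Spec (CommRingCat.of k))]
    (F : X.Modules) (G : Y.Modules) (h : ∀ i, Nonempty (Coh.HH X F i ≃ₗ[k] Coh.HH Y G i)) :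
    Curv2.euler k X F = Curv2.euler k Y G :=
  finsum_congr fun i => by rw [(h i).some.finrank_eq]

theorem euler_of_isZero {X : Scheme.{u}} [X.Over (Spec (CommRingCat.of k))] (F : X.Modules) (h : IsZero F) :
    Curv2.euler k X F = 0 := by
  haveI := PnHodge.subsingleton_hh_of_isZero h 0
  rw [euler_single F 0 fun i _ => PnHodge.subsingleton_hh_of_isZero h i, Module.finrank_zero_of_subsingleton]
  simp

section Ambient

variable (n : ℕ)

/-- `χ(Ω^p(-m))` on projective space. -/
theorem euler_forms [QuasiSeparated (CohB1.ProjSpace.toSpec n k)] (p m : ℕ) (hp : p ≤ n)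
    (L : (CohB1.ProjSpace n k).Modules) (hL : PnHodge.IsOm n k p L) :
    Polynomial.C (Curv2.euler k (CohB1.ProjSpace n k) (CohB1.tensorMod L (Twist.twistProjSpace n k (-(m : ℤ))))) *
        Polynomial.X ^ p =
      PowerSeries.coeff p (rser m) * PowerSeries.coeff (n - p) (qser m) := by
  rw [rser, PowerSeries.coeff_mk]
  rcases m with _ | m
  · have hsub : ∀ i, i ≠ p → Subsingleton (PnHodge.H L 0 i) := fun i hi =>
      PnHodge.vanish p 0 i (fun h => hi h.2.1) (by simp) (by simp) L hL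
    obtain ⟨e⟩ := PnHodge.nonempty_H_diag p hp L hL
    rw [Nat.cast_zero, neg_zero, euler_single _ p hsub, e.finrank_eq, Module.finrank_self, coeff_qser_zero,
      Nat.zero_add, Nat.choose_zero_right]
    simp only [Nat.cast_one, mul_one, map_pow, map_neg, map_one]
    rw [← mul_pow, neg_one_mul]
  · have hsub : ∀ i, i ≠ n → Subsingleton (PnHodge.H L (-((m + 1 : ℕ) : ℤ)) i) := fun i hi =>
      PnHodge.vanish p _ i (by omega) (by omega) (by omega) L hL
    rw [euler_single _ n hsub, (PnHodge.finrank_H_neg p hp (m + 1) (by omega) L hL).2, PnHodge.hzero,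
      coeff_qser_succ, show m + 1 + n - (n - p) = m + 1 + p by omega, Nat.add_sub_cancel, map_mul, map_pow, map_neg,
      map_one, neg_pow (Polynomial.X : Polynomial ℤ) p, Nat.cast_mul, map_mul, map_natCast, map_natCast,
      show (-1 : Polynomial ℤ) ^ n = (-1) ^ p * (-1) ^ (n - p) by rw [← pow_add, Nat.add_sub_cancel' hp]]
    ring

/-- The generating polynomials of projective space are the coefficients of the series. -/
theorem sum_euler_forms [QuasiSeparated (CohB1.ProjSpace.toSpec n k)] (m : ℕ)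
    (L : ℕ → (CohB1.ProjSpace n k).Modules) (hL : ∀ p, PnHodge.IsOm n k p (L p)) :
    ∑ p ∈ Finset.range (n + 1), Polynomial.C (Curv2.euler k (CohB1.ProjSpace n k)
        (CohB1.tensorMod (L p) (Twist.twistProjSpace n k (-(m : ℤ))))) * Polynomial.X ^ p =
      PowerSeries.coeff n (rser m * qser m) := by
  rw [PowerSeries.coeff_mul, Finset.Nat.sum_antidiagonal_eq_sum_range_succ
    (fun i j => PowerSeries.coeff i (rser m) * PowerSeries.coeff j (qser m))]
  exact Finset.sum_congr rfl fun p hp => euler_forms n p m (Nat.lt_succ_iff.1 (Finset.mem_range.1 hp)) (L p) (hL p)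

end Ambient

section Sequences

variable {X : Scheme.{u}} [X.Over (Spec (CommRingCat.of k))] [IsProper (X ↘ Spec (CommRingCat.of k))]

/-- Additivity after tensoring with a locally free sheaf. -/
theorem euler_tensor_add {G : X.Modules} (hG : FlatMod.IsFinLocFree G) (S : ShortComplex X.Modules)
    (hS : S.ShortExact) (h₁ : Coh.IsCoh S.X₁) (h₂ : Coh.IsCoh S.X₂) (h₃ : Coh.IsCoh S.X₃) :
    Curv2.euler k X (CohB1.tensorMod S.X₂ G) =
      Curv2.euler k X (CohB1.tensorMod S.X₁ G) + Curv2.euler k X (CohB1.tensorMod S.X₃ G) := by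
  have hGc : Coh.IsCoh G := FreeLite.isCoh hG
  have h := CurveRR.euler_add (k := k) (PnReg.shortExact_tensor hG hS) (CurveRR.isCoh_tensor' h₁ hGc)
    (CurveRR.isCoh_tensor' h₂ hGc) (CurveRR.isCoh_tensor' h₃ hGc)
  dsimp only at h
  exact h

variable (I : X.IdealSheafData) [I.subscheme.Over (Spec (CommRingCat.of k))]
  (hover : I.subscheme ↘ Spec (CommRingCat.of k) = I.subschemeι ≫ X ↘ Spec (CommRingCat.of k))

include hover in
/-- Restriction to the subscheme. -/
theorem euler_res (hJ : PicF.IsInvertible (ClSub.idealMod I)) (G : X.Modules) (hG : FlatMod.IsFinLocFree G) :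
    Curv2.euler k X G = Curv2.euler k X (CohB1.tensorMod (ClSub.idealMod I) G) +
      Curv2.euler k I.subscheme ((Scheme.Modules.pullback I.subschemeι).obj G) := by
  let j : CohB1.tensorMod (ClSub.quotMod I) G ≅
      (Scheme.Modules.pushforward I.subschemeι).obj ((Scheme.Modules.pullback I.subschemeι).obj G) :=
    TMul.commIso _ _ ≪≫ (S0927.projIso I.subschemeι G hG).app (Coh.structureModule I.subscheme) ≪≫
      (Scheme.Modules.pushforward I.subschemeι).mapIso (TMul.commIso _ _ ≪≫ TMul.leftUnitIso _)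
  haveI := CurveRR.isNoetherian_of_proper k X
  have h := euler_tensor_add (k := k) hG
    (ShortComplex.mk (ClSub.idealModι I) (ClSub.toSubscheme I) (kernel.condition _)) (CurveRR.ideal_shortExact I)
    (CurveRR.isCoh_idealMod I).1 (FreeLite.isCoh (ResDesc.isFinLocFree_structureModule X)) (CurveRR.isCoh_idealMod I).2
  dsimp only at h
  haveI : ((Scheme.Modules.pullback I.subschemeι).obj G).IsQuasicoherent :=
    LocFree.isQCoh_of_isFinLocFree (SGA6Ext.isFinLocFree_pullback _ hG)
  have hc : Curv2.euler k X (CohB1.tensorMod (ClSub.quotMod I) G) =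
      Curv2.euler k I.subscheme ((Scheme.Modules.pullback I.subschemeι).obj G) :=
    (euler_of_hh_equiv _ _ fun q => by
      obtain ⟨e⟩ := CohFinite.hh_push_linear k I.subschemeι hover.symm _
        (CohQC.directAcyclic_of_isAffineHom I.subschemeι ((Scheme.Modules.pullback I.subschemeι).obj G)) q
      exact ⟨hhEquiv k j q ≪≫ₗ e.symm⟩)
  rw [← hc]
  refine Eq.trans ?_ h
  exact (CurveRR.euler_eq_of_iso (k := k) (TMul.leftUnitIso G)).symm

variable [Smooth (I.subscheme ↘ Spec (CommRingCat.of k))] [QuasiSeparated (X ↘ Spec (CommRingCat.of k))]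
  [QuasiSeparated (I.subscheme ↘ Spec (CommRingCat.of k))] [IsProper (I.subscheme ↘ Spec (CommRingCat.of k))]
  (hJ : PicF.IsInvertible (ClSub.idealMod I))
  (hΩ : FlatMod.IsFinLocFree (Omega.sheaf (X ↘ Spec (CommRingCat.of k))))
  (hW : FlatMod.IsFinLocFree (Omega.sheaf (I.subscheme ↘ Spec (CommRingCat.of k))))

include hover hJ hΩ hW in
/-- Twisted forms along the divisor. -/
theorem euler_conormal (b : ℕ) {E : X.Modules} {W W' : I.subscheme.Modules}
    (hE : ExtPow.IsExtPow (b + 1) (Omega.sheaf (X ↘ Spec (CommRingCat.of k))) E)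
    (hWb : ExtPow.IsExtPow b (Omega.sheaf (I.subscheme ↘ Spec (CommRingCat.of k))) W)
    (hWb' : ExtPow.IsExtPow (b + 1) (Omega.sheaf (I.subscheme ↘ Spec (CommRingCat.of k))) W')
    (T T₁ : X.Modules) (hT : FlatMod.IsFinLocFree T) (e : CohB1.tensorMod (ClSub.idealMod I) T ≅ T₁) :
    Curv2.euler k I.subscheme ((Scheme.Modules.pullback I.subschemeι).obj (CohB1.tensorMod E T)) =
      Curv2.euler k I.subscheme (CohB1.tensorMod W ((Scheme.Modules.pullback I.subschemeι).obj T₁)) +
      Curv2.euler k I.subscheme (CohB1.tensorMod W' ((Scheme.Modules.pullback I.subschemeι).obj T)) := by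
  obtain ⟨S, hS, ⟨a⟩, ⟨m⟩, ⟨c⟩⟩ := exists_forms_seq (A := k) I hover hJ hΩ hW b hE hWb hWb'
  have hTZ := SGA6Ext.isFinLocFree_pullback I.subschemeι hT
  obtain ⟨w⟩ := iso_of_isExtPow hWb (isExtPow_extSh _ b hW)
  obtain ⟨w'⟩ := iso_of_isExtPow hWb' (isExtPow_extSh _ (b + 1) hW)
  obtain ⟨i⟩ := iso_of_isExtPow hE (isExtPow_extSh _ (b + 1) hΩ)
  have hJZ := finLocFree_of_rank (CurveRR.isFinLocFreeOfRank_one (PicLoc.isInvertible_pullback I.subschemeι hJ))
  have h₁ : FlatMod.IsFinLocFree S.X₁ := DQCoh.isFinLocFree_of_iso' a.symm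
    (ResDesc.isFinLocFree_tensorMod hJZ (DQCoh.isFinLocFree_of_iso' w.symm (isFinLocFree_extSh _ _ hW)))
  have h₂ : FlatMod.IsFinLocFree S.X₂ := DQCoh.isFinLocFree_of_iso' m.symm
    (SGA6Ext.isFinLocFree_pullback _ (DQCoh.isFinLocFree_of_iso' i.symm (isFinLocFree_extSh _ _ hΩ)))
  have h₃ : FlatMod.IsFinLocFree S.X₃ := DQCoh.isFinLocFree_of_iso' c.symm
    (DQCoh.isFinLocFree_of_iso' w'.symm (isFinLocFree_extSh _ _ hW))
  have h := euler_tensor_add (k := k) hTZ S hS (FreeLite.isCoh h₁) (FreeLite.isCoh h₂) (FreeLite.isCoh h₃)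
  obtain ⟨t₁⟩ := TMul.nonempty_pullTensorIso I.subschemeι (ClSub.idealMod I) T
  obtain ⟨t₂⟩ := TMul.nonempty_pullTensorIso I.subschemeι E T
  let u : CohB1.tensorMod S.X₁ ((Scheme.Modules.pullback I.subschemeι).obj T) ≅
      CohB1.tensorMod W ((Scheme.Modules.pullback I.subschemeι).obj T₁) :=
    PicGrp.tensorModIso (a ≪≫ TMul.commIso _ _) (Iso.refl _) ≪≫ TMul.assocIso _ _ _ ≪≫
      PicGrp.tensorModIso (Iso.refl _) (t₁ ≪≫
        (Scheme.Modules.pullback I.subschemeι).mapIso e)
  rw [CurveRR.euler_eq_of_iso (k := k) (t₂.symm ≪≫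
      PicGrp.tensorModIso m.symm (Iso.refl _)), ← CurveRR.euler_eq_of_iso (k := k) u,
    CurveRR.euler_eq_of_iso (k := k) (PicGrp.tensorModIso c.symm (Iso.refl ((Scheme.Modules.pullback I.subschemeι).obj T)))]
  exact h

end Sequences

/-- Summing the relations. -/
theorem poly_rec (n : ℕ) (x r z : ℕ → ℕ → ℤ) (hres : ∀ p j, r p j = x p j - x p (j + 1))
    (h0 : ∀ j, r 0 j = z 0 j) (hsucc : ∀ p j, r (p + 1) j = z p (j + 1) + z (p + 1) j)
    (hbig : ∀ j, z (n + 1) j = 0) (j : ℕ) :
    (∑ p ∈ Finset.range (n + 1), Polynomial.C (z p j) * Polynomial.X ^ p) +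
        Polynomial.X * ∑ p ∈ Finset.range (n + 1), Polynomial.C (z p (j + 1)) * Polynomial.X ^ p =
      (∑ p ∈ Finset.range (n + 1 + 1), Polynomial.C (x p j) * Polynomial.X ^ p) -
        ∑ p ∈ Finset.range (n + 1 + 1), Polynomial.C (x p (j + 1)) * Polynomial.X ^ p := by
  rw [← Finset.sum_sub_distrib, Finset.sum_congr rfl (fun p _ => show Polynomial.C (x p j) * Polynomial.X ^ p -
      Polynomial.C (x p (j + 1)) * Polynomial.X ^ p = Polynomial.C (r p j) * Polynomial.X ^ p by
    rw [hres, map_sub, sub_mul]), Finset.sum_range_succ' (fun p => Polynomial.C (r p j) * Polynomial.X ^ p)]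
  simp only [h0, hsucc, map_add, add_mul, Finset.sum_add_distrib]
  have hz := Finset.sum_range_succ (fun p => Polynomial.C (z p j) * Polynomial.X ^ p) (n + 1)
  rw [hbig, map_zero, zero_mul, add_zero, Finset.sum_range_succ' (fun p => Polynomial.C (z p j) * Polynomial.X ^ p)] at hz
  rw [← hz, Finset.mul_sum, Finset.sum_congr rfl (fun p _ =>
    show Polynomial.X * (Polynomial.C (z p (j + 1)) * Polynomial.X ^ p) =
      Polynomial.C (z p (j + 1)) * Polynomial.X ^ (p + 1) by rw [pow_succ]; ring)]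
  ring

/-- The recursion for the generating polynomials of a smooth hypersurface. -/
theorem exists_genus_rec {n a : ℕ} (ha : 1 ≤ a) (G : LefPen.Form (n + 1) k a)
    [(LefPen.hypIdeal G).subscheme.Over (Spec (CommRingCat.of k))]
    (hover : (LefPen.hypIdeal G).subscheme ↘ Spec (CommRingCat.of k) =
      (LefPen.hypIdeal G).subschemeι ≫ CohB1.ProjSpace.toSpec (n + 1) k)
    [hs : SmoothOfRelativeDimension n ((LefPen.hypIdeal G).subschemeι ≫ CohB1.ProjSpace.toSpec (n + 1) k)]
    (W : ℕ → (LefPen.hypIdeal G).subscheme.Modules)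
    (hW : ∀ p, ExtPow.IsExtPow p
      (Omega.sheaf ((LefPen.hypIdeal G).subschemeι ≫ CohB1.ProjSpace.toSpec (n + 1) k)) (W p)) :
    ∃ H : ℕ → Polynomial ℤ,
      H 0 = ∑ p ∈ Finset.range (n + 1), Polynomial.C (∑ q ∈ Finset.range (n + 1), (-1 : ℤ) ^ q *
        (Module.finrank k (Coh.HH (LefPen.hypIdeal G).subscheme (W p) q) : ℤ)) * Polynomial.X ^ p ∧
      ∀ j, H j + Polynomial.X * H (j + 1) = PowerSeries.coeff (n + 1) (rser (j * a) * qser (j * a)) -
        PowerSeries.coeff (n + 1) (rser ((j + 1) * a) * qser ((j + 1) * a)) := by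
  let a' : Fin 1 → ℕ := fun _ => a
  let G' : ∀ j : Fin 1, LefPen.Form (n + 1) k (a' j) := fun _ => G
  have hG : G ≠ 0 := by
    haveI : SmoothOfRelativeDimension n ((LefPen.ciIdeal G').subschemeι ≫ CohB1.ProjSpace.toSpec (n + 1) k) := by
      rw [show LefPen.ciIdeal G' = LefPen.hypIdeal G from ciSup_unique]; infer_instance
    exact (isCI_of_smooth (n := n) (d := 1) (a := a') (fun _ => ha) G').last_ne_zero (r := 0)
  haveI := PnHodge.quasiSeparated_toSpec (n + 1) k
  haveI hpX : IsProper (CohB1.ProjSpace (n + 1) k ↘ Spec (CommRingCat.of k)) := ProjMor.isProper_toSpec (n + 1) k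
  haveI : QuasiSeparated (CohB1.ProjSpace (n + 1) k ↘ Spec (CommRingCat.of k)) := PnHodge.quasiSeparated_toSpec (n + 1) k
  have hover' : (LefPen.hypIdeal G).subscheme ↘ Spec (CommRingCat.of k) =
      (LefPen.hypIdeal G).subschemeι ≫ CohB1.ProjSpace (n + 1) k ↘ Spec (CommRingCat.of k) := hover
  haveI : SmoothOfRelativeDimension n ((LefPen.hypIdeal G).subscheme ↘ Spec (CommRingCat.of k)) := by
    rw [hover]; exact hs
  haveI : Smooth ((LefPen.hypIdeal G).subscheme ↘ Spec (CommRingCat.of k)) := SmoothOfRelativeDimension.smooth n _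
  haveI := ExtFund.isProper_of_closed (LefPen.hypIdeal G).subschemeι hover.symm
  obtain ⟨t⟩ := PlaneCurve.nonempty_ideal_iso_twist G hG
  have hΩW := ExtFund.isFinLocFreeOfRank_omega ((LefPen.hypIdeal G).subscheme ↘ Spec (CommRingCat.of k)) n
  have hΩ : FlatMod.IsFinLocFree (Omega.sheaf (CohB1.ProjSpace (n + 1) k ↘ Spec (CommRingCat.of k))) :=
    PnHodge.isFinLocFree_omega (A := k)
  have hW' : ∀ p, ExtPow.IsExtPow p (Omega.sheaf ((LefPen.hypIdeal G).subscheme ↘ Spec (CommRingCat.of k))) (W p) :=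
    fun p => PnHodge.isExtPow_congr_source (eqToIso (by rw [hover])) (hW p)
  have hinv : ∀ c : ℤ, PicF.IsInvertible (Twist.twistProjSpace (n + 1) k c) := fun c => GrT.isInvertible_twist_of_gens (PlaneCurve.hasFracGens _)
  have hJ : PicF.IsInvertible (ClSub.idealMod (LefPen.hypIdeal G)) := FieldAmple.isInvertible_of_iso t.symm (hinv _)
  choose E hE using fun p => PnHodge.exists_isOm (n + 1) k p
  let O : ℕ → (CohB1.ProjSpace (n + 1) k).Modules := fun j => Twist.twistProjSpace (n + 1) k (-((j * a : ℕ) : ℤ))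
  have hO : ∀ j, Nonempty (CohB1.tensorMod (ClSub.idealMod (LefPen.hypIdeal G)) (O j) ≅ O (j + 1)) := fun j => by
    obtain ⟨e⟩ := TwistPairing.nonempty_twist_twist (R := k) (n + 1) (-(a : ℤ)) (-((j * a : ℕ) : ℤ))
      (-(((j + 1) * a : ℕ) : ℤ)) (by push_cast; ring)
    exact ⟨PicGrp.tensorModIso t (Iso.refl _) ≪≫ e⟩
  let eX : ℕ → ℕ → ℤ := fun p j => Curv2.euler k (CohB1.ProjSpace (n + 1) k) (CohB1.tensorMod (E p) (O j))
  let eZ : ℕ → ℕ → ℤ := fun p j => Curv2.euler k (LefPen.hypIdeal G).subscheme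
    (CohB1.tensorMod (W p) ((Scheme.Modules.pullback (LefPen.hypIdeal G).subschemeι).obj (O j)))
  let eR : ℕ → ℕ → ℤ := fun p j => Curv2.euler k (LefPen.hypIdeal G).subscheme
    ((Scheme.Modules.pullback (LefPen.hypIdeal G).subschemeι).obj (CohB1.tensorMod (E p) (O j)))
  have hfl : ∀ p, FlatMod.IsFinLocFree (E p) := fun p => by
    obtain ⟨i⟩ := iso_of_isExtPow (hE p) (isExtPow_extSh _ p hΩ)
    exact DQCoh.isFinLocFree_of_iso' i.symm (isFinLocFree_extSh _ _ hΩ)
  have hOf : ∀ j, FlatMod.IsFinLocFree (O j) := fun j => finLocFree_of_rank (CurveRR.isFinLocFreeOfRank_one (hinv _))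
  have hres : ∀ p j, eR p j = eX p j - eX p (j + 1) := fun p j => by
    obtain ⟨e⟩ := hO j
    have h := euler_res (k := k) (LefPen.hypIdeal G) hover' hJ (CohB1.tensorMod (E p) (O j)) (ResDesc.isFinLocFree_tensorMod (hfl p) (hOf j))
    rw [CurveRR.euler_eq_of_iso (k := k) ((TMul.assocIso _ _ _).symm ≪≫
      PicGrp.tensorModIso (TMul.commIso _ _) (Iso.refl _) ≪≫ TMul.assocIso _ _ _ ≪≫
      PicGrp.tensorModIso (Iso.refl (E p)) e)] at h
    change eX p j = eX p (j + 1) + eR p j at h
    linarith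
  have h0 : ∀ j, eR 0 j = eZ 0 j := fun j => by
    obtain ⟨i⟩ := iso_of_isExtPow (hE 0) (isExtPow_zero _)
    obtain ⟨i'⟩ := iso_of_isExtPow (hW' 0) (isExtPow_zero _)
    obtain ⟨t₀⟩ := TMul.nonempty_pullTensorIso (LefPen.hypIdeal G).subschemeι (E 0) (O j)
    exact CurveRR.euler_eq_of_iso (k := k) (t₀.symm ≪≫
      PicGrp.tensorModIso ((Scheme.Modules.pullback _).mapIso i ≪≫ PicLoc.pullbackStructureIso _ ≪≫ i'.symm)
        (Iso.refl _))
  have hsucc : ∀ p j, eR (p + 1) j = eZ p (j + 1) + eZ (p + 1) j := fun p j => by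
    obtain ⟨e⟩ := hO j
    exact euler_conormal (k := k) (LefPen.hypIdeal G) hover' hJ hΩ (finLocFree_of_rank hΩW) p (hE (p + 1)) (hW' p)
      (hW' (p + 1)) (O j) (O (j + 1)) (hOf j) e
  have hbig : ∀ j, eZ (n + 1) j = 0 := fun j => euler_of_isZero _
    ((PnReg.isZero_tensor_right (isZero_extPow_of_rank hΩW (Nat.lt_succ_self n) (hW' (n + 1))) _).of_iso
      (TMul.commIso _ _))
  refine ⟨fun j => ∑ p ∈ Finset.range (n + 1), Polynomial.C (eZ p j) * Polynomial.X ^ p, ?_, fun j => ?_⟩
  · refine Finset.sum_congr rfl fun p _ => ?_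
    congr 2
    obtain ⟨z⟩ : Nonempty (O 0 ≅ Coh.structureModule (CohB1.ProjSpace (n + 1) k)) := by
      simp only [O, Nat.zero_mul, Nat.cast_zero, neg_zero]
      exact PnHodge.nonempty_twist_zero_iso
    rw [show eZ p 0 = Curv2.euler k (LefPen.hypIdeal G).subscheme (W p) from CurveRR.euler_eq_of_iso (k := k)
      (PicGrp.tensorModIso (Iso.refl _) ((Scheme.Modules.pullback _).mapIso z ≪≫ PicLoc.pullbackStructureIso _) ≪≫
        SecTwist.unitorR (W p))]
    exact CurveRR.euler_eq_sum (k := k) (W p) (n + 1) fun i hi => subsingleton_above_dim (k := k) (n := n) _ i (by omega)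
  · have hP : ∀ j, PowerSeries.coeff (n + 1) (rser (j * a) * qser (j * a)) =
        ∑ p ∈ Finset.range (n + 1 + 1), Polynomial.C (eX p j) * Polynomial.X ^ p := fun j =>
      (sum_euler_forms (k := k) (n + 1) (j * a) E hE).symm
    rw [hP, hP]
    exact poly_rec n eX eR eZ hres h0 hsucc hbig j

end Groth.Agent.HodgeCI
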