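import Groth.Agent.HodgeCI.Generic
import Groth.Agent.CompInt.Conormal
import Groth.Agent.DerPerf.Local
import Groth.Agent.SGA6Ext.Pull
import Groth.Agent.ExtFund.SmoothDual
import Groth.Agent.SerrePn.SheafHomExt
import Groth.Agent.S0024

/-!
# Twists and the pulled back Euler sequence on a complete intersection
-/

set_option autoImplicit false
set_option backward.isDefEq.respectTransparency false
set_option backward.isDefEq.respectTransparency.types false
set_option linter.style.haveILetI false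
set_option linter.unusedSectionVars false
set_option maxHeartbeats 1000000

universe u

open CategoryTheory CategoryTheory.Limits AlgebraicGeometry TopologicalSpace Opposite
open Groth.Agent.CohFinite (hhMap hhEquiv)

noncomputable section

namespace Groth.Agent.HodgeCI

variable {k : Type u} [Field k] {N : ℕ} {Y : Scheme.{u}} (f : Y ⟶ CohB1.ProjSpace N k)

/-- The pulled back twists. -/
abbrev tw (i : ℤ) : Y.Modules := (Scheme.Modules.pullback f).obj (Twist.twistProjSpace N k i)

theorem nonempty_tw_zero : Nonempty (tw f 0 ≅ Coh.structureModule Y) :=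
  (GrT.nonempty_twist_zero_iso (𝒜 := CohB1.polyGrading N k)).map fun o =>
    (Scheme.Modules.pullback f).mapIso o ≪≫ PicLoc.pullbackStructureIso f

theorem nonempty_tw_add (a b c : ℤ) (h : a + b = c) : Nonempty (CohB1.tensorMod (tw f b) (tw f a) ≅ tw f c) :=
  (GrT.nonempty_twist_tensor_iso (CohB1.polyGrading N k) (a := a) (b := b) (c := c)
    (PlaneCurve.hasFracGens _) h).map fun t =>
    Groth.Agent.KFlat.pullTensorIso f _ _ ≪≫ (Scheme.Modules.pullback f).mapIso t

theorem nonempty_pow_tw : ∀ m : ℕ, Nonempty (CohB1.tensorPow (tw f (-1)) m ≅ tw f (-(m : ℤ)))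
  | 0 => (nonempty_tw_zero f).map fun e => eqToIso rfl ≪≫ e.symm ≪≫ eqToIso (by simp)
  | m + 1 => by
    obtain ⟨e⟩ := nonempty_pow_tw m
    obtain ⟨t⟩ := nonempty_tw_add f (-1) (-(m : ℤ)) (-((m + 1 : ℕ) : ℤ)) (by push_cast; ring)
    exact ⟨PicGrp.tensorModIso e (Iso.refl _) ≪≫ t⟩

theorem isInvertible_tw (i : ℤ) : PicF.IsInvertible (tw f i) :=
  PicLoc.isInvertible_pullback _ (GrT.isInvertible_twist_of_gens (PlaneCurve.hasFracGens _))

theorem nonempty_cancel_tw : Nonempty (CohB1.tensorMod (tw f (-1)) (tw f 1) ≅ Coh.structureModule Y) := by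
  obtain ⟨e⟩ := nonempty_tw_zero f
  obtain ⟨t⟩ := nonempty_tw_add f 1 (-1) 0 (by norm_num)
  exact ⟨t ≪≫ e⟩

/-- A kernel sequence of locally free modules, pulled back. -/
theorem exists_pulled_seq {P : Scheme.{u}} (g : Y ⟶ P) {E O Ω : P.Modules} (q : E ⟶ O) (hq : Epi q)
    (ε : CohB1.tensorMod Ω O ≅ kernel q) (hE : FlatMod.IsFinLocFree E) (hO : FlatMod.IsFinLocFree O) :
    ∃ q₀ : (Scheme.Modules.pullback g).obj E ⟶ (Scheme.Modules.pullback g).obj O, Epi q₀ ∧
      Nonempty (CohB1.tensorMod ((Scheme.Modules.pullback g).obj Ω) ((Scheme.Modules.pullback g).obj O) ≅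
        kernel q₀) := by
  haveI := hq
  let S₀ := ShortComplex.mk (kernel.ι q) q (kernel.condition q)
  have hS₀ : S₀.ShortExact := { exact := ShortComplex.exact_kernel q }
  have hS := SGA6Ext.shortExact_pullback g hS₀ (DCohLocus.isFinLocFree_kernel q hE hO) hE hO
  refine ⟨(Scheme.Modules.pullback g).map q, hS.epi_g, ⟨?_⟩⟩
  exact Groth.Agent.KFlat.pullTensorIso g _ _ ≪≫ (Scheme.Modules.pullback g).mapIso ε ≪≫
    IsLimit.conePointUniqueUpToIso hS.fIsKernel (limit.isLimit _)

theorem exists_pulled_euler [QuasiSeparated (CohB1.ProjSpace.toSpec N k)] :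
    ∃ (E : Y.Modules) (q₀ : E ⟶ tw f 1), Epi q₀ ∧ Nonempty (E ≅ FlatMod.freeMod Y (N + 1)) ∧
      Nonempty (CohB1.tensorMod ((Scheme.Modules.pullback f).obj (Omega.sheaf (CohB1.ProjSpace.toSpec N k))) (tw f 1)
        ≅ kernel q₀) := by
  have hP := CycPB.isProjBundle_projSpace N k
  have hfree : ∀ (Z : Scheme.{u}) (c : ℕ), FlatMod.IsFinLocFree (FlatMod.freeMod Z c) := fun Z c =>
    ResDesc.isFinLocFree_of_frames fun x => ⟨⊤, _, _, trivial, W7Strat.isFrame_freeMod Z c⟩
  obtain ⟨ε⟩ := PBundle.euler_sequence hP (hfree _ _) (OmegaLib.isUniversal_dOmega (CohB1.ProjSpace.toSpec N k))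
  obtain ⟨q₀, hq₀, ⟨ε₀⟩⟩ := exists_pulled_seq f _ hP.epi ε
    (DQCoh.isFinLocFree_of_iso' (DerPerf.pullFreeIso _ (N + 1)).symm (hfree _ _))
    (SGA6Ext.finLocFree_of_rank hP.invertible)
  exact ⟨_, q₀, hq₀, ⟨(Scheme.Modules.pullback f).mapIso (DerPerf.pullFreeIso _ (N + 1)) ≪≫
    DerPerf.pullFreeIso f (N + 1)⟩, ⟨ε₀⟩⟩

section Coh

variable {n : ℕ} (hgood : CompInt.Good f n)
include hgood

theorem subsingleton_pow (hN : 1 ≤ N) {m q : ℕ} (hm : 1 ≤ m) (hq : q < n) :
    Subsingleton (Coh.HH Y (CohB1.tensorPow (tw f (-1)) m) q) := by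
  obtain ⟨e⟩ := nonempty_pow_tw f m
  refine CohQC.hh_subsingleton_of_iso e.symm q ?_
  rcases Nat.eq_zero_or_pos q with rfl | hq0
  · have h0 := ProjCech.twist_vanish (R := k) N (-(m : ℤ)) 0 (fun h => by omega)
      (fun h => by omega)
    haveI : Subsingleton Γ(Twist.twistProjSpace N k (-(m : ℤ)), (⊤ : (CohB1.ProjSpace N k).Opens)) :=
      (Sheaf.H.equiv₀ (Coh.toAb _) (isTerminalTop : IsTerminal (⊤ : (CohB1.ProjSpace N k).Opens))).symm.toEquiv.subsingleton
    have h1 : Subsingleton Γ(tw f (-(m : ℤ)), (⊤ : Y.Opens)) :=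
      @Function.Surjective.subsingleton _ _ _ this ((hgood (-(m : ℤ))).2 (by omega))
    exact @Equiv.subsingleton _ _ (Sheaf.H.equiv₀ (Coh.toAb _) (isTerminalTop : IsTerminal (⊤ : Y.Opens))).toEquiv h1
  · exact (hgood _).1 q hq0 hq

theorem subsingleton_structure {q : ℕ} (hq0 : 1 ≤ q) (hq : q < n) :
    Subsingleton (Coh.HH Y (Coh.structureModule Y) q) := by
  obtain ⟨e⟩ := nonempty_tw_zero f
  exact CohQC.hh_subsingleton_of_iso e q ((hgood 0).1 q hq0 hq)

theorem surjective_appTop_comp (hn : 1 ≤ n) :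
    Function.Surjective (f ≫ CohB1.ProjSpace.toSpec N k).appTop := by
  haveI : IsIso (CohB1.ProjSpace.toSpec N k).appTop := S0024.result N k
  obtain ⟨o⟩ : Nonempty (Twist.twistProjSpace N k 0 ≅ Coh.structureModule (CohB1.ProjSpace N k)) :=
    GrT.nonempty_twist_zero_iso (𝒜 := CohB1.polyGrading N k)
  let adj := Scheme.Modules.pullbackPushforwardAdjunction f
  have hsurj : Function.Surjective f.appTop := by
    have hnat := adj.unit.naturality o.hom
    have hu : adj.homEquiv (Coh.structureModule (CohB1.ProjSpace N k)) (Coh.structureModule Y)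
        (PicLoc.pullbackStructureIso f).hom = SheafOfModules.unitToPushforwardObjUnit f.toRingCatSheafHom :=
      Equiv.apply_symm_apply _ _
    rw [adj.homEquiv_unit] at hu
    intro t
    obtain ⟨t₁, ht₁⟩ := CompInt.app_surjective_of_isIso
      ((Scheme.Modules.pushforward f).map ((Scheme.Modules.pullback f).map o.hom ≫ (PicLoc.pullbackStructureIso f).hom)) ⊤ t
    obtain ⟨s, hs⟩ := (hgood 0).2 hn t₁
    refine ⟨o.hom.app ⊤ s, ?_⟩
    have h2 := congrArg (fun φ : Twist.twistProjSpace N k 0 ⟶ (Scheme.Modules.pushforward f).obj (Coh.structureModule Y) => φ.app ⊤ s)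
      ((congrArg (· ≫ (Scheme.Modules.pushforward f).map (PicLoc.pullbackStructureIso f).hom) hnat))
    simp only [Category.assoc, Functor.id_map, Functor.comp_map, ← Functor.map_comp] at h2
    rw [hu] at h2
    refine Eq.trans ?_ (h2.trans ?_)
    · rfl
    · rw [← ht₁, ← hs]
      rfl
  rw [Scheme.Hom.comp_appTop]
  exact hsurj.comp (ConcreteCategory.bijective_of_isIso (CohB1.ProjSpace.toSpec N k).appTop).2

theorem bijective_appTop_comp (hn : 1 ≤ n) [Nonempty Y] :
    Function.Bijective (f ≫ CohB1.ProjSpace.toSpec N k).appTop := by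
  refine ⟨?_, surjective_appTop_comp f hgood hn⟩
  obtain ⟨z⟩ := ‹Nonempty Y›
  haveI : Nontrivial Γ(Y, ⊤) := RingHom.domain_nontrivial (Y.presheaf.germ ⊤ z trivial).hom
  have e : Γ(Spec (CommRingCat.of k), ⊤) ≃+* k := (Scheme.ΓSpecIso (CommRingCat.of k)).commRingCatIsoToRingEquiv
  have hinj : Function.Injective ((f ≫ CohB1.ProjSpace.toSpec N k).appTop.hom.comp e.symm.toRingHom) :=
    RingHom.injective _
  exact fun p q hpq => e.injective (hinj (by simpa using hpq))

end Coh

/-- Global functions are the constants: so is `H⁰(O)`. -/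
theorem finrank_h0_structure {X : Scheme.{u}} [X.Over (Spec (CommRingCat.of k))]
    (h : Function.Bijective (X ↘ Spec (CommRingCat.of k)).appTop) :
    Module.finrank k (Coh.HH X (Coh.structureModule X) 0) = 1 := by
  let E := Sheaf.H.equiv₀ (Coh.toAb (Coh.structureModule X)) (isTerminalTop : IsTerminal (⊤ : X.Opens))
  let one' : Coh.HH X (Coh.structureModule X) 0 := E.symm (1 : Γ(X, ⊤))
  have key : ∀ a : k, E (a • one') = (Coh.toGlobal (X ↘ Spec (CommRingCat.of k)) a : Γ(X, ⊤)) := fun a => by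
    change E (Sheaf.H.map (Coh.smulAb (Coh.structureModule X) (Coh.toGlobal _ a)) 0 one') = _
    refine (Sheaf.H.equiv₀_naturality _ _ _).symm.trans ?_
    rw [show E one' = (1 : Γ(X, ⊤)) from E.apply_symm_apply _]
    refine (Coh.smulAb_app _ _ _ _).trans ?_
    have hres : ∀ r : Coh.Γtop X, Coh.resTop X (op ⊤) r = r := fun r => by
      change (X.ringCatSheaf.obj.map (𝟙 (op ⊤))).hom r = r
      rw [CategoryTheory.Functor.map_id]
      rfl
    rw [hres]
    exact mul_one (Coh.toGlobal (X ↘ Spec (CommRingCat.of k)) a : Γ(X, ⊤))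
  let ev : k →ₗ[k] Coh.HH X (Coh.structureModule X) 0 := LinearMap.toSpanSingleton k _ one'
  have hb : Function.Bijective ev := by
    refine (Function.Bijective.of_comp_iff' E.bijective ev).1 ?_
    have : (E ∘ ev) = fun a => (Coh.toGlobal (X ↘ Spec (CommRingCat.of k)) a : Γ(X, ⊤)) := funext key
    rw [this]
    exact h.comp (Scheme.ΓSpecIso (CommRingCat.of k)).commRingCatIsoToRingEquiv.symm.bijective
  rw [← (LinearEquiv.ofBijective ev hb).finrank_eq, Module.finrank_self]

/-- Forms cutting out a complete intersection have a common zero. -/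
theorem nonempty_ciIdeal {d : ℕ} (hd : d ≤ N) {a : Fin d → ℕ} (ha : ∀ j, 1 ≤ a j)
    (G : ∀ j, LefPen.Form N k (a j)) : Nonempty (LefPen.ciIdeal G).subscheme := by
  classical
  let J : Ideal (MvPolynomial (Fin (N + 1)) k) := Ideal.span (Set.range fun j => (G j).1)
  have hJh : J.IsHomogeneous (CohB1.polyGrading N k) := Ideal.homogeneous_span _ _ (by
    rintro _ ⟨j, rfl⟩
    exact ⟨a j, (G j).2⟩)
  have hJm : J ≤ HomogIdeal.mIdeal k N := Ideal.span_le.2 (by
    rintro _ ⟨j, rfl⟩
    exact HomogIdeal.mem_mIdeal_iff.2 (by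
      rw [MvPolynomial.constantCoeff_eq]
      exact ((MvPolynomial.mem_homogeneousSubmodule (a j) _).1 (G j).2).coeff_eq_zero (by
        have := ha j; simp; omega)))
  have hJ : J ≠ ⊤ := fun h => Ideal.IsPrime.ne_top inferInstance (top_le_iff.1 (h ▸ hJm))
  obtain ⟨q, hq⟩ := J.nonempty_minimalPrimes hJ
  haveI := hq.1.1
  have hh : q.height ≤ d := by
    refine (Ideal.height_le_card_of_mem_minimalPrimes_span (Set.finite_range _) hq).trans ?_
    rw [Nat.cast_le, ← Set.image_univ]
    exact (Set.ncard_image_le Set.finite_univ).trans_eq (by rw [Set.ncard_univ, Nat.card_fin])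
  have hrel : ¬ (HomogeneousIdeal.irrelevant (CohB1.polyGrading N k)).toIdeal ≤ q := fun h => by
    rw [HomogIdeal.irrelevant_eq] at h
    have := ((ProjNoether.height_mIdeal (k := k) N).trans (Ideal.height_mono h)).trans hh
    exact absurd this (by exact_mod_cast (by omega : ¬ N + 1 ≤ d))
  let x : CohB1.ProjSpace N k := (⟨⟨q, HomogIdeal.isHomogeneous_of_mem_minimalPrimes hJh hq⟩, ‹q.IsPrime›, hrel⟩ :
    ProjectiveSpectrum (CohB1.polyGrading N k))
  have hx : x ∈ (LefPen.ciIdeal G).support := by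
    rw [LefPen.ciIdeal, Scheme.IdealSheafData.support_iSup, ← SetLike.mem_coe, Closeds.coe_iInf, Set.mem_iInter]
    exact fun j => (CompInt.mem_support_hypIdeal (ha j) (G j) x).2 (hq.1.2 (Ideal.subset_span ⟨j, rfl⟩))
  rw [← SetLike.mem_coe, ← Scheme.IdealSheafData.range_subschemeι] at hx
  obtain ⟨z, -⟩ := hx
  exact ⟨z⟩

theorem isCI_of_smooth {n d : ℕ} {a : Fin d → ℕ} (ha : ∀ j, 1 ≤ a j) (G : ∀ j, LefPen.Form (n + d) k (a j))
    [SmoothOfRelativeDimension n ((LefPen.ciIdeal G).subschemeι ≫ CohB1.ProjSpace.toSpec (n + d) k)] :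
    CompInt.IsCI G := by
  haveI := nonempty_ciIdeal (Nat.le_add_left d n) ha G
  exact CompInt.isCI_of_dim G ha (Nat.le_add_left d n) (by
    rw [ExtFund.topologicalKrullDim_eq_of_smooth ((LefPen.ciIdeal G).subschemeι ≫ CohB1.ProjSpace.toSpec (n + d) k) n,
      show n + d - d = n by omega])

theorem good_of_smooth {n d : ℕ} {a : Fin d → ℕ} (ha : ∀ j, 1 ≤ a j) (G : ∀ j, LefPen.Form (n + d) k (a j))
    [SmoothOfRelativeDimension n ((LefPen.ciIdeal G).subschemeι ≫ CohB1.ProjSpace.toSpec (n + d) k)] :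
    CompInt.Good (LefPen.ciIdeal G).subschemeι n := by
  have h := CompInt.good (isCI_of_smooth ha G)
  rwa [show n + d - d = n by omega] at h

end Groth.Agent.HodgeCI
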