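import Groth.Agent.HodgeCI.Basic
import Groth.Agent.CurveRR.Curve

/-!
# Vanishing for forms twisted down by an anti-ample line bundle
-/

set_option autoImplicit false
set_option backward.isDefEq.respectTransparency false
set_option backward.isDefEq.respectTransparency.types false
set_option linter.style.haveILetI false
set_option linter.unusedSectionVars false
set_option maxHeartbeats 1000000

universe u

open CategoryTheory CategoryTheory.Limits AlgebraicGeometry TopologicalSpace Opposite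
open Groth.Agent.SGA6Ext
open Groth.Agent.CohFinite (hhMap hhEquiv tmap)

noncomputable section

namespace Groth.Agent.HodgeCI

variable {X : Scheme.{u}} {A : Type u} [CommRing A] [X.Over (Spec (CommRingCat.of A))]

theorem isFinLocFree_pow {L : X.Modules} (hL : PicF.IsInvertible L) (m : ℕ) :
    FlatMod.IsFinLocFree (CohB1.tensorPow L m) :=
  finLocFree_of_rank (CurveRR.isFinLocFreeOfRank_one (TMul.isInvertible_tensorPow hL m))

/-- Powers of `L` and `O` cancel. -/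
theorem nonempty_pow_cancel {L O : X.Modules} (w : CohB1.tensorMod L O ≅ Coh.structureModule X) :
    ∀ a : ℕ, Nonempty (CohB1.tensorMod (CohB1.tensorPow O a) (CohB1.tensorPow L a) ≅ Coh.structureModule X)
  | 0 => ⟨SecTwist.unitorR _⟩
  | a + 1 => (nonempty_pow_cancel w a).map fun e =>
    TMul.assocIso _ _ _ ≪≫ PicGrp.tensorModIso (Iso.refl _)
      ((TMul.assocIso _ _ _).symm ≪≫ PicGrp.tensorModIso (TMul.commIso O _) (Iso.refl _) ≪≫ TMul.assocIso _ _ _ ≪≫
        PicGrp.tensorModIso (Iso.refl _) (TMul.commIso O L ≪≫ w) ≪≫ SecTwist.unitorR _) ≪≫ e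

section Koszul

variable {L O M E : X.Modules} {q₀ : E ⟶ O} {N : ℕ} (n : ℕ)
  (hL : PicF.IsInvertible L) (hO : FlatMod.IsFinLocFreeOfRank 1 O) (hOi : PicF.IsInvertible O)
  (w : CohB1.tensorMod L O ≅ Coh.structureModule X)
  (e : E ≅ FlatMod.freeMod X (N + 1)) (hq : Epi q₀) (ε : CohB1.tensorMod M O ≅ kernel q₀)
  (hM : FlatMod.IsFinLocFree M)
  (hneg : ∀ m q : ℕ, 1 ≤ m → q < n → Subsingleton (Coh.HH X (CohB1.tensorPow L m) q))
  (hzero : ∀ q : ℕ, 1 ≤ q → q < n → Subsingleton (Coh.HH X (Coh.structureModule X) q))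

include A hL hO hOi w e hq ε hM in
theorem exists_seq_ambient (p m : ℕ) {Mp Mp' : X.Modules} (h : ExtPow.IsExtPow p M Mp)
    (h' : ExtPow.IsExtPow (p + 1) M Mp') :
    ∃ S : ShortComplex X.Modules, S.ShortExact ∧ ∀ q,
      Nonempty (Coh.HH X S.X₁ q ≃ₗ[A] Coh.HH X (CohB1.tensorMod Mp' (CohB1.tensorPow L m)) q) ∧
      Nonempty (Coh.HH X S.X₂ q ≃ₗ[A] (Fin ((N + 1).choose (p + 1)) →
        Coh.HH X (CohB1.tensorPow L (p + 1 + m)) q)) ∧
      Nonempty (Coh.HH X S.X₃ q ≃ₗ[A] Coh.HH X (CohB1.tensorMod Mp (CohB1.tensorPow L m)) q) := by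
  obtain ⟨S, hS, ⟨a⟩, ⟨b⟩, ⟨c⟩⟩ := PnHodge.exists_seq_gen ε hq e hO hM hOi p h h'
  obtain ⟨s⟩ := TMul.nonempty_powAddIso L (p + 1) m
  obtain ⟨u⟩ := nonempty_pow_cancel w (p + 1)
  let v : CohB1.tensorMod (CohB1.tensorPow O (p + 1)) (CohB1.tensorPow L (p + 1 + m)) ≅ CohB1.tensorPow L m :=
    PicGrp.tensorModIso (Iso.refl _) s.symm ≪≫ (TMul.assocIso _ _ _).symm ≪≫
      PicGrp.tensorModIso u (Iso.refl _) ≪≫ TMul.leftUnitIso _
  refine ⟨_, PnReg.shortExact_tensor (isFinLocFree_pow hL (p + 1 + m)) hS, fun q => ⟨⟨?_⟩, ?_, ⟨?_⟩⟩⟩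
  · exact hhEquiv A (PicGrp.tensorModIso a (Iso.refl _) ≪≫ TMul.assocIso _ _ _ ≪≫
      PicGrp.tensorModIso (Iso.refl _) v) q
  · obtain ⟨f⟩ := PnHodge.nonempty_hh_free A ((N + 1).choose (p + 1)) (CohB1.tensorPow L (p + 1 + m)) q
    exact ⟨hhEquiv A (PicGrp.tensorModIso b (Iso.refl _)) q ≪≫ₗ f⟩
  · exact hhEquiv A (PicGrp.tensorModIso (c ≪≫ TMul.assocIso _ _ _) (Iso.refl _) ≪≫ TMul.assocIso _ _ _ ≪≫
      PicGrp.tensorModIso (Iso.refl _) v) q

include A hL hO hOi w e hq ε hM hneg hzero in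
/-- Cohomology of the twisted down exterior powers of the ambient forms below the top degree. -/
theorem ambient_vanish : ∀ (p m q : ℕ), q < n → (1 ≤ m ∨ q ≠ p) → ∀ Mp, ExtPow.IsExtPow p M Mp →
    Subsingleton (Coh.HH X (CohB1.tensorMod Mp (CohB1.tensorPow L m)) q) := by
  intro p
  induction p with
  | zero =>
    intro m q hq hmq Mp h
    obtain ⟨i⟩ := iso_of_isExtPow h (isExtPow_zero _)
    refine subsingleton_iso (PicGrp.tensorModIso i (Iso.refl _) ≪≫ TMul.leftUnitIso _).symm q ?_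
    rcases Nat.eq_zero_or_pos m with rfl | hm
    · exact hzero q (by omega) hq
    · exact hneg m q hm hq
  | succ p ih =>
    intro m q hqn hmq Mp' h'
    obtain ⟨Mp, h⟩ : ∃ Mp, ExtPow.IsExtPow p M Mp := ⟨_, isExtPow_extSh M p hM⟩
    obtain ⟨S, hS, he⟩ := exists_seq_ambient (A := A) hL hO hOi w e hq ε hM p m h h'
    obtain ⟨⟨a⟩, ⟨b⟩, -⟩ := he q
    haveI := hneg (p + 1 + m) q (by omega) hqn
    haveI := b.toEquiv.subsingleton
    rcases q with _ | q
    · exact a.toEquiv.subsingleton_congr.1 (PnHodge.injective_f_zero (A := A) hS).subsingleton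
    · obtain ⟨-, -, ⟨c⟩⟩ := he q
      exact a.toEquiv.subsingleton_congr.1 (PnHodge.injective_f_succ (A := A) hS q
        (c.toEquiv.subsingleton_congr.2 (ih m q (by omega) (by omega) Mp h))).subsingleton

include A hL hO hOi w e hq ε hM hneg in
/-- The diagonal. -/
theorem ambient_diag : ∀ p : ℕ, p < n → ∀ Mp, ExtPow.IsExtPow p M Mp →
    Nonempty (Coh.HH X (CohB1.tensorMod Mp (CohB1.tensorPow L 0)) p ≃ₗ[A] Coh.HH X (Coh.structureModule X) 0) := by
  intro p
  induction p with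
  | zero =>
    intro _ Mp h
    obtain ⟨i⟩ := iso_of_isExtPow h (isExtPow_zero _)
    exact ⟨hhEquiv A (PicGrp.tensorModIso i (Iso.refl _) ≪≫ TMul.leftUnitIso _) 0⟩
  | succ p ih =>
    intro hp Mp' h'
    obtain ⟨Mp, h⟩ : ∃ Mp, ExtPow.IsExtPow p M Mp := ⟨_, isExtPow_extSh M p hM⟩
    obtain ⟨S, hS, he⟩ := exists_seq_ambient (A := A) hL hO hOi w e hq ε hM p 0 h h'
    obtain ⟨-, ⟨b⟩, ⟨c⟩⟩ := he p
    obtain ⟨⟨a⟩, ⟨b'⟩, -⟩ := he (p + 1)
    haveI := hneg (p + 1 + 0) p (by omega) (by omega)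
    haveI := hneg (p + 1 + 0) (p + 1) (by omega) hp
    obtain ⟨δ⟩ := PnHodge.nonempty_δ_equiv (A := A) hS p b.toEquiv.subsingleton b'.toEquiv.subsingleton
    obtain ⟨i⟩ := ih (by omega) Mp h
    exact ⟨a.symm ≪≫ₗ δ.symm ≪≫ₗ c ≪≫ₗ i⟩

end Koszul

section Split

variable {L : X.Modules}

/-- Splitting off the last summand. -/
theorem exists_split_last {r : ℕ} (F : Fin (r + 1) → X.Modules) :
    ∃ S : ShortComplex X.Modules, S.ShortExact ∧ S.X₁ = (∐ fun i : Fin r => F i.castSucc) ∧ S.X₂ = (∐ F) ∧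
      S.X₃ = F (Fin.last r) := by
  let i : (∐ fun i : Fin r => F i.castSucc) ⟶ ∐ F := Sigma.desc fun j => Sigma.ι F j.castSucc
  let p : (∐ F) ⟶ F (Fin.last r) := Sigma.desc (Fin.lastCases (𝟙 _) fun _ => 0)
  let ρ : (∐ F) ⟶ ∐ fun i : Fin r => F i.castSucc :=
    Sigma.desc (Fin.lastCases 0 fun j => Sigma.ι (fun i : Fin r => F i.castSucc) j)
  have w : i ≫ p = 0 := Sigma.hom_ext _ _ fun j => by simp [i, p]
  refine ⟨ShortComplex.mk i p w, ShortComplex.Splitting.shortExact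
    { r := ρ
      s := Sigma.ι F (Fin.last r)
      f_r := Sigma.hom_ext _ _ fun j => by simp [i, ρ]
      s_g := by simp [p]
      id := Sigma.hom_ext _ _ fun j => ?_ }, rfl, rfl, rfl⟩
  induction j using Fin.lastCases with
  | last => simp [i, p, ρ]
  | cast j => simp [i, p, ρ]

theorem isFinLocFree_coprod {ι : Type} [Fintype ι] (F : ι → X.Modules) (h : ∀ i, FlatMod.IsFinLocFree (F i)) :
    FlatMod.IsFinLocFree (∐ F) := DerPerf.isFinLocFree_of_isColimit Finset.univ (coproductIsCoproduct F) (fun i hi => absurd (Finset.mem_univ i) hi) fun i _ => h i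

/-- Exterior powers of a sum of positive powers of `L`. -/
theorem sum_pow_vanish (hL : PicF.IsInvertible L) (W : X.Modules) (hW : FlatMod.IsFinLocFree W) (q : ℕ)
    (hh : ∀ m, 1 ≤ m → Subsingleton (Coh.HH X (CohB1.tensorMod W (CohB1.tensorPow L m)) q)) :
    ∀ (r : ℕ) (a : Fin r → ℕ), (∀ i, 1 ≤ a i) → ∀ (k : ℕ), 1 ≤ k → ∀ Nk : X.Modules,
      ExtPow.IsExtPow k (∐ fun i => CohB1.tensorPow L (a i)) Nk → ∀ m : ℕ,
      Subsingleton (Coh.HH X (CohB1.tensorMod Nk (CohB1.tensorMod W (CohB1.tensorPow L m))) q) := by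
  intro r
  induction r with
  | zero =>
    intro a _ k hk Nk hN m
    have hz : IsZero (∐ fun i : Fin 0 => CohB1.tensorPow L (a i)) :=
      (IsZero.iff_id_eq_zero _).2 (Sigma.hom_ext _ _ fun i => i.elim0)
    exact PnHodge.subsingleton_hh_of_isZero
      ((PnReg.isZero_tensor_right (isZero_extPow_of_isZero hz hk hN) _).of_iso (TMul.commIso _ _)) q
  | succ r ih =>
    intro a ha k hk Nk hN m
    obtain ⟨S, hS, e₁, e₂, e₃⟩ := exists_split_last fun i => CohB1.tensorPow L (a i)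
    have h₃ : FlatMod.IsFinLocFreeOfRank 1 S.X₃ := by rw [e₃]; exact CurveRR.isFinLocFreeOfRank_one (TMul.isInvertible_tensorPow hL _)
    obtain ⟨D⟩ := exists_sys hS (by rw [e₁]; exact isFinLocFree_coprod _ fun i => isFinLocFree_pow hL _)
      (by rw [e₂]; exact isFinLocFree_coprod _ fun i => isFinLocFree_pow hL _) (finLocFree_of_rank h₃)
    obtain ⟨i⟩ := iso_of_isExtPow hN (PnHodge.isExtPow_congr_source (eqToIso e₂) (sys_mid D k))
    refine subsingleton_iso (PicGrp.tensorModIso i (Iso.refl _)).symm q ?_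
    refine subsingleton_extPow_succ D h₃ _ (DerPerf.isFinLocFree_tensor hW (isFinLocFree_pow hL m)) k q hk ?_ ?_
    · exact ih _ (fun i => ha _) k hk _ (PnHodge.isExtPow_congr_source (eqToIso e₁) (sys_left D k)) m
    · obtain ⟨s⟩ := TMul.nonempty_powAddIso L (a (Fin.last r)) m
      let v : CohB1.tensorMod S.X₃ (CohB1.tensorMod W (CohB1.tensorPow L m)) ≅
          CohB1.tensorMod W (CohB1.tensorPow L (a (Fin.last r) + m)) :=
        (TMul.assocIso _ _ _).symm ≪≫ PicGrp.tensorModIso (TMul.commIso _ _) (Iso.refl _) ≪≫ TMul.assocIso _ _ _ ≪≫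
          PicGrp.tensorModIso (Iso.refl W) (PicGrp.tensorModIso (eqToIso e₃) (Iso.refl _) ≪≫ s)
      refine subsingleton_iso (TMul.assocIso _ _ _ ≪≫ PicGrp.tensorModIso (Iso.refl _) v).symm q ?_
      rcases Nat.eq_zero_or_pos (k - 1) with hk0 | hk0
      · have h₀ : ExtPow.IsExtPow 0 S.X₁ (D.L' (k - 1)) := by
          have h₀' := sys_left D (k - 1)
          generalize D.L' (k - 1) = Z at h₀' ⊢
          rw [hk0] at h₀'
          exact h₀'
        obtain ⟨i₀⟩ := iso_of_isExtPow h₀ (isExtPow_zero S.X₁)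
        have hh' : Subsingleton (Coh.HH X (CohB1.tensorMod W (CohB1.tensorPow L (a (Fin.last r) + m))) q) :=
          hh (a (Fin.last r) + m) (le_add_right (ha (Fin.last r)))
        exact subsingleton_iso (PicGrp.tensorModIso i₀ (Iso.refl (CohB1.tensorMod W (CohB1.tensorPow L (a (Fin.last r) + m)))) ≪≫
          TMul.leftUnitIso (CohB1.tensorMod W (CohB1.tensorPow L (a (Fin.last r) + m)))).symm q hh'
      · exact ih (fun i => a i.castSucc) (fun i => ha _) (k - 1) hk0 (D.L' (k - 1))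
          (PnHodge.isExtPow_congr_source (eqToIso e₁) (sys_left D (k - 1))) (a (Fin.last r) + m)

/-- Forms of a quotient: below the top total degree the ambient forms compute their cohomology. -/
theorem quotient_forms (hL : PicF.IsInvertible L) {M W : X.Modules} (hM : FlatMod.IsFinLocFree M)
    (hW : FlatMod.IsFinLocFree W) {r : ℕ} (a : Fin r → ℕ) (ha : ∀ i, 1 ≤ a i)
    {S : ShortComplex X.Modules} (hS : S.ShortExact) (e₁ : S.X₁ ≅ ∐ fun i => CohB1.tensorPow L (a i))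
    (e₂ : S.X₂ = M) (e₃ : S.X₃ = W) (n : ℕ)
    (hamb : ∀ p m q, p + q < n → 1 ≤ m → ∀ Mp, ExtPow.IsExtPow p M Mp →
      Subsingleton (Coh.HH X (CohB1.tensorMod Mp (CohB1.tensorPow L m)) q)) :
    ∀ p m q, p + q < n → ∀ Mp Wp, ExtPow.IsExtPow p M Mp → ExtPow.IsExtPow p W Wp →
      Nonempty (Coh.HH X (CohB1.tensorMod Mp (CohB1.tensorPow L m)) q ≃ₗ[A]
        Coh.HH X (CohB1.tensorMod Wp (CohB1.tensorPow L m)) q) ∧
      (1 ≤ m → Subsingleton (Coh.HH X (CohB1.tensorMod Wp (CohB1.tensorPow L m)) q)) := by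
  have hN : FlatMod.IsFinLocFree S.X₁ :=
    DQCoh.isFinLocFree_of_iso' e₁.symm (isFinLocFree_coprod _ fun i => isFinLocFree_pow hL _)
  obtain ⟨D⟩ := exists_sys hS hN (e₂ ▸ hM) (e₃ ▸ hW)
  intro p
  induction p using Nat.strong_induction_on with
  | _ p ih =>
    intro m q hpq Mp Wp hMp hWp
    obtain ⟨i⟩ := iso_of_isExtPow hMp (PnHodge.isExtPow_congr_source (eqToIso e₂) (sys_mid D p))
    obtain ⟨j⟩ := iso_of_isExtPow hWp (PnHodge.isExtPow_congr_source (eqToIso e₃) (sys_right D p))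
    obtain ⟨f⟩ := nonempty_mid_equiv A D (CohB1.tensorPow L m) (isFinLocFree_pow hL m) p q fun k hk hkp j hj => by
      refine subsingleton_iso (TMul.assocIso _ _ _).symm j ?_
      refine sum_pow_vanish hL (D.L'' (p - k)) (D.hL'' _) j (fun m' hm' => ?_) r a ha k hk _
        (PnHodge.isExtPow_congr_source e₁ (sys_left D k)) m
      exact (ih (p - k) (by omega) m' j (by rcases hj with rfl | rfl <;> omega) (D.L (p - k)) (D.L'' (p - k))
        (PnHodge.isExtPow_congr_source (eqToIso e₂) (sys_mid D _)) (PnHodge.isExtPow_congr_source (eqToIso e₃) (sys_right D _))).2 hm'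
    let g := hhEquiv A (PicGrp.tensorModIso i (Iso.refl _)) q ≪≫ₗ f ≪≫ₗ
      hhEquiv A (PicGrp.tensorModIso j.symm (Iso.refl _)) q
    exact ⟨⟨g⟩, fun hm => g.toEquiv.subsingleton_congr.1 (hamb p m q hpq hm Mp hMp)⟩

end Split

end Groth.Agent.HodgeCI
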