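import Groth.Agent.HodgeCI.Basic
import Groth.Agent.HodgeCI.Generic
import Groth.Agent.ExtFund.Adjunction
import Groth.Agent.SerrePn.ClosedTwist
import Groth.Agent.SGA6Ext.PullExt

/-!
# Forms on a smooth divisor
-/

set_option autoImplicit false
set_option backward.isDefEq.respectTransparency false
set_option backward.isDefEq.respectTransparency.types false
set_option linter.style.haveILetI false
set_option linter.unusedSectionVars false
set_option maxHeartbeats 1000000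

universe u

open CategoryTheory CategoryTheory.Limits AlgebraicGeometry TopologicalSpace Opposite
open Groth.Agent.SGA6Ext
open Groth.Agent.CohFinite (hhMap hhEquiv tmap)

noncomputable section

namespace Groth.Agent.HodgeCI

/-- The sequence of exterior powers of an extension by a line bundle. -/
theorem exists_line_sub_seq {X : Scheme.{u}} {S : ShortComplex X.Modules} (hS : S.ShortExact)
    (h₁ : FlatMod.IsFinLocFreeOfRank 1 S.X₁) (h₂ : FlatMod.IsFinLocFree S.X₂) (h₃ : FlatMod.IsFinLocFree S.X₃)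
    (b : ℕ) {E W W' : X.Modules} (hE : ExtPow.IsExtPow (b + 1) S.X₂ E) (hW : ExtPow.IsExtPow b S.X₃ W)
    (hW' : ExtPow.IsExtPow (b + 1) S.X₃ W') :
    ∃ T : ShortComplex X.Modules, T.ShortExact ∧ Nonempty (T.X₁ ≅ CohB1.tensorMod S.X₁ W) ∧
      Nonempty (T.X₂ ≅ E) ∧ Nonempty (T.X₃ ≅ W') := by
  obtain ⟨D⟩ := exists_sys hS (finLocFree_of_rank h₁) h₂ h₃
  obtain ⟨a⟩ := iso_of_isExtPow (sys_left D 1) (isExtPow_one _)
  obtain ⟨c⟩ := iso_of_isExtPow hW (sys_right D b)
  obtain ⟨e⟩ := iso_of_isExtPow hE (sys_mid D (b + 1))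
  obtain ⟨w⟩ := iso_of_isExtPow hW' (sys_right D (b + 1))
  obtain ⟨q⟩ := nonempty_Q_one D (b + 1)
  have hQ : ∀ j, j ≤ b → Nonempty (Q D (b + 1) (j + 2) ≅ Q D (b + 1) 2) := by
    intro j
    induction j with
    | zero => exact fun _ => ⟨Iso.refl _⟩
    | succ j ih =>
      intro hj
      obtain ⟨i⟩ := iso_of_isExtPow (sys_left D (j + 2)) (isExtPow_extSh S.X₁ (j + 2) (finLocFree_of_rank h₁))
      have hg := shortExact_gr D (b + 1) (j + 2) (by omega)
      haveI := hg.epi_g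
      haveI : Mono (delta D (b + 1) (j + 2)) := hg.exact.mono_g
        (((PnReg.isZero_tensor_right ((PnReg.isZero_extSh_line h₁ (by omega)).of_iso i) _).of_iso
          (TMul.commIso _ _)).eq_of_src _ _)
      haveI : IsIso (delta D (b + 1) (j + 2)) := isIso_of_mono_of_epi _
      obtain ⟨k⟩ := ih (by omega)
      exact ⟨asIso (delta D (b + 1) (j + 2)) ≪≫ k⟩
  obtain ⟨r⟩ := hQ b le_rfl
  haveI := isIso_prj_top D (b + 1)
  exact ⟨_, shortExact_gr D (b + 1) 1 (by omega),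
    ⟨PicGrp.tensorModIso a (eqToIso (by rw [Nat.add_sub_cancel]) ≪≫ c.symm)⟩,
    ⟨r.symm ≪≫ (asIso (prj D (b + 1) (b + 1 + 1))).symm ≪≫ e.symm⟩, ⟨q ≪≫ w.symm⟩⟩

section Seq

variable (A : Type u) [CommRing A] {X : Scheme.{u}} [X.Over (Spec (CommRingCat.of A))]
  {S : ShortComplex X.Modules} (hS : S.ShortExact)
include hS A

theorem subsingleton_left (q : ℕ) (h₂ : Subsingleton (Coh.HH X S.X₂ q))
    (h₃ : ∀ j, q = j + 1 → Subsingleton (Coh.HH X S.X₃ j)) : Subsingleton (Coh.HH X S.X₁ q) := by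
  rcases q with _ | j
  · exact (PnHodge.injective_f_zero (A := A) hS).subsingleton
  · exact (PnHodge.injective_f_succ (A := A) hS j (h₃ j rfl)).subsingleton

theorem injective_g (q : ℕ) (h₁ : Subsingleton (Coh.HH X S.X₁ q)) : Function.Injective (hhMap A S.g q) := by
  refine LinearMap.ker_eq_bot.1 ?_
  rw [← PnHodge.range_f (A := A) hS q, LinearMap.range_eq_bot]
  exact LinearMap.ext fun x => by rw [h₁.elim x 0, map_zero]; rfl

end Seq

variable {A : Type u} [CommRing A] {X : Scheme.{u}} [X.Over (Spec (CommRingCat.of A))] (I : X.IdealSheafData)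
  [I.subscheme.Over (Spec (CommRingCat.of A))]
  (hover : I.subscheme ↘ Spec (CommRingCat.of A) = I.subschemeι ≫ X ↘ Spec (CommRingCat.of A))

include hover in
/-- Restriction to the subscheme, in cohomology. -/
theorem exists_res_seq (G : X.Modules) (hG : FlatMod.IsFinLocFree G) :
    ∃ S : ShortComplex X.Modules, S.ShortExact ∧ ∀ q,
      Nonempty (Coh.HH X S.X₁ q ≃ₗ[A] Coh.HH X (CohB1.tensorMod (ClSub.idealMod I) G) q) ∧
      Nonempty (Coh.HH X S.X₂ q ≃ₗ[A] Coh.HH X G q) ∧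
      Nonempty (Coh.HH X S.X₃ q ≃ₗ[A] Coh.HH I.subscheme ((Scheme.Modules.pullback I.subschemeι).obj G) q) := by
  let j : CohB1.tensorMod (ClSub.quotMod I) G ≅
      (Scheme.Modules.pushforward I.subschemeι).obj ((Scheme.Modules.pullback I.subschemeι).obj G) :=
    TMul.commIso _ _ ≪≫ (S0927.projIso I.subschemeι G hG).app (Coh.structureModule I.subscheme) ≪≫
      (Scheme.Modules.pushforward I.subschemeι).mapIso (TMul.commIso _ _ ≪≫ TMul.leftUnitIso _)
  refine ⟨_, PnReg.shortExact_tensor hG (CurveRR.ideal_shortExact I), fun q =>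
    ⟨⟨hhEquiv A (Iso.refl _) q⟩, ⟨hhEquiv A (TMul.leftUnitIso G) q⟩, ?_⟩⟩
  haveI : ((Scheme.Modules.pullback I.subschemeι).obj G).IsQuasicoherent :=
    LocFree.isQCoh_of_isFinLocFree (SGA6Ext.isFinLocFree_pullback _ hG)
  obtain ⟨e⟩ := CohFinite.hh_push_linear A I.subschemeι hover.symm _
    (CohQC.directAcyclic_of_isAffineHom I.subschemeι ((Scheme.Modules.pullback I.subschemeι).obj G)) q
  exact ⟨hhEquiv A j q ≪≫ₗ e.symm⟩

include hover in
theorem res_vanish (G : X.Modules) (hG : FlatMod.IsFinLocFree G) (q : ℕ) (h₂ : Subsingleton (Coh.HH X G q))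
    (h₁ : Subsingleton (Coh.HH X (CohB1.tensorMod (ClSub.idealMod I) G) (q + 1))) :
    Subsingleton (Coh.HH I.subscheme ((Scheme.Modules.pullback I.subschemeι).obj G) q) := by
  obtain ⟨S, hS, h⟩ := exists_res_seq (A := A) I hover G hG
  obtain ⟨-, ⟨b⟩, ⟨c⟩⟩ := h q
  obtain ⟨⟨a⟩, -, -⟩ := h (q + 1)
  exact c.toEquiv.subsingleton_congr.1 (CohFinite.subsingleton_of_shortExact hS q
    (b.toEquiv.subsingleton_congr.2 h₂) (a.toEquiv.subsingleton_congr.2 h₁))

include hover in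
theorem exists_res_map (G : X.Modules) (hG : FlatMod.IsFinLocFree G) (q : ℕ)
    (h₁ : Subsingleton (Coh.HH X (CohB1.tensorMod (ClSub.idealMod I) G) q)) :
    ∃ φ : Coh.HH X G q →ₗ[A] Coh.HH I.subscheme ((Scheme.Modules.pullback I.subschemeι).obj G) q,
      Function.Injective φ ∧
        (Subsingleton (Coh.HH X (CohB1.tensorMod (ClSub.idealMod I) G) (q + 1)) → Function.Surjective φ) := by
  obtain ⟨S, hS, h⟩ := exists_res_seq (A := A) I hover G hG
  obtain ⟨⟨a⟩, ⟨b⟩, ⟨c⟩⟩ := h q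
  obtain ⟨⟨a'⟩, -, -⟩ := h (q + 1)
  refine ⟨c.toLinearMap ∘ₗ hhMap A S.g q ∘ₗ b.symm.toLinearMap,
    c.injective.comp ((injective_g A hS q (a.toEquiv.subsingleton_congr.2 h₁)).comp b.symm.injective), fun h' => ?_⟩
  exact c.surjective.comp ((PnHodge.surjective_g (A := A) hS q (a'.toEquiv.subsingleton_congr.2 h')).comp
    b.symm.surjective)

variable [Smooth (I.subscheme ↘ Spec (CommRingCat.of A))] [QuasiSeparated (X ↘ Spec (CommRingCat.of A))]
  [QuasiSeparated (I.subscheme ↘ Spec (CommRingCat.of A))]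
  (hJ : PicF.IsInvertible (ClSub.idealMod I))
  (hΩ : FlatMod.IsFinLocFree (Omega.sheaf (X ↘ Spec (CommRingCat.of A))))
  (hW : FlatMod.IsFinLocFree (Omega.sheaf (I.subscheme ↘ Spec (CommRingCat.of A))))

include hover hJ hΩ hW in
/-- The sequence of forms along the divisor. -/
theorem exists_forms_seq (b : ℕ) {E : X.Modules} {W W' : I.subscheme.Modules}
    (hE : ExtPow.IsExtPow (b + 1) (Omega.sheaf (X ↘ Spec (CommRingCat.of A))) E)
    (hWb : ExtPow.IsExtPow b (Omega.sheaf (I.subscheme ↘ Spec (CommRingCat.of A))) W)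
    (hWb' : ExtPow.IsExtPow (b + 1) (Omega.sheaf (I.subscheme ↘ Spec (CommRingCat.of A))) W') :
    ∃ T : ShortComplex I.subscheme.Modules, T.ShortExact ∧
      Nonempty (T.X₁ ≅ CohB1.tensorMod ((Scheme.Modules.pullback I.subschemeι).obj (ClSub.idealMod I)) W) ∧
      Nonempty (T.X₂ ≅ (Scheme.Modules.pullback I.subschemeι).obj E) ∧ Nonempty (T.X₃ ≅ W') := by
  haveI : Smooth (I.subschemeι ≫ X ↘ Spec (CommRingCat.of A)) := by rw [← hover]; infer_instance
  haveI : QuasiSeparated (I.subschemeι ≫ X ↘ Spec (CommRingCat.of A)) := by rw [← hover]; infer_instance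
  obtain ⟨S, hS, h₁, h₂, h₃⟩ := ExtFund.exists_conormal_ses (X ↘ Spec (CommRingCat.of A)) I.subschemeι
  have e₁ : S.X₁ = (Scheme.Modules.pullback I.subschemeι).obj (ClSub.idealMod I) := by
    rw [h₁, Omega.conormal, Scheme.IdealSheafData.ker_subschemeι]
  have h₃' : S.X₃ = Omega.sheaf (I.subscheme ↘ Spec (CommRingCat.of A)) := by rw [h₃, hover]
  obtain ⟨p⟩ := exists_pullExt I.subschemeι (k := b + 1) hΩ
  obtain ⟨i⟩ := iso_of_isExtPow hE (isExtPow_extSh _ (b + 1) hΩ)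
  have hΩ' := SGA6Ext.isFinLocFree_pullback I.subschemeι hΩ
  obtain ⟨i'⟩ : Nonempty ((Scheme.Modules.pullback I.subschemeι).obj E ≅
      extSh ((Scheme.Modules.pullback I.subschemeι).obj (Omega.sheaf (X ↘ Spec (CommRingCat.of A)))) (b + 1)) :=
    ⟨(Scheme.Modules.pullback I.subschemeι).mapIso i ≪≫ p⟩
  obtain ⟨T, hT, ⟨a⟩, ⟨m⟩, hc⟩ := exists_line_sub_seq hS
    (by rw [e₁]; exact CurveRR.isFinLocFreeOfRank_one (PicLoc.isInvertible_pullback _ hJ))
    (by rw [h₂]; exact hΩ') (by rw [h₃']; exact hW) b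
    (PnHodge.isExtPow_congr_source (eqToIso h₂.symm) (isExtPow_extSh _ (b + 1) hΩ'))
    (PnHodge.isExtPow_congr_source (eqToIso h₃'.symm) hWb) (PnHodge.isExtPow_congr_source (eqToIso h₃'.symm) hWb')
  exact ⟨T, hT, ⟨a ≪≫ PicGrp.tensorModIso (eqToIso e₁) (Iso.refl _)⟩, ⟨m ≪≫ i'.symm⟩, hc⟩

end Groth.Agent.HodgeCI
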