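import Groth.Agent.SGA6Ext.Alg
import Mathlib

/-!
# The perfect pairing of exterior powers of a finite free module
-/

set_option autoImplicit false
set_option linter.style.haveILetI false

universe u

open exteriorPower
open Groth.Agent.SGA6Ext (wedge coe_wedge)

noncomputable section

namespace Groth.Agent.HodgeCI

variable {R : Type u} [CommRing R] {M : Type u} [AddCommGroup M] [Module R M] {n : ℕ}
  (b : Module.Basis (Fin n) R M)

theorem ιMulti_mul_ιMulti {p q : ℕ} (a : Fin p → M) (c : Fin q → M) :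
    ExteriorAlgebra.ιMulti R p a * ExteriorAlgebra.ιMulti R q c =
      ExteriorAlgebra.ιMulti R (p + q) (Fin.append a c) := by
  simp only [ExteriorAlgebra.ιMulti_apply]
  rw [← List.prod_append, ← List.ofFn_fin_append]
  congr 2
  funext i
  refine Fin.addCases (fun i => ?_) (fun i => ?_) i <;> simp

/-- The wedge of two basis vectors. -/
theorem wedge_ιMulti {p : ℕ} (hp : p ≤ n) (u : Fin p → Fin n) (v : Fin (n - p) → Fin n) :
    wedge (LinearMap.id : M →ₗ[R] M) p n (ιMulti R p (b ∘ u)) (ιMulti R (n - p) (b ∘ v)) =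
      ιMulti R n (b ∘ Fin.append u v ∘ Fin.cast (Nat.add_sub_cancel' hp).symm) := by
  refine Subtype.ext ?_
  rw [coe_wedge _ hp, ιMulti_apply_coe, ιMulti_apply_coe, ιMulti_apply_coe, ExteriorAlgebra.map_id,
    AlgHom.id_apply, ιMulti_mul_ιMulti]
  have key : ∀ (m : ℕ) (h : n = m) (g : Fin m → M),
      ExteriorAlgebra.ιMulti R m g = ExteriorAlgebra.ιMulti R n (g ∘ Fin.cast h) := by
    intro m h g
    subst h
    rfl
  rw [key _ (Nat.add_sub_cancel' hp).symm]
  congr 1
  funext i
  simp only [Function.comp_apply]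
  generalize Fin.cast (Nat.add_sub_cancel' hp).symm i = j
  refine Fin.addCases (fun i => ?_) (fun i => ?_) j <;> simp

theorem ιMulti_comp_eq (w : Fin n → Fin n) :
    ιMulti R n (b ∘ w) = 0 ∨ Function.Bijective w ∧
      (ιMulti R n (b ∘ w) = ιMulti R n b ∨ ιMulti R n (b ∘ w) = -ιMulti R n b) := by
  by_cases h : Function.Injective w
  · have hw : Function.Bijective w := Finite.injective_iff_bijective.1 h
    refine Or.inr ⟨hw, ?_⟩
    have e : ιMulti R n (b ∘ w) = Equiv.Perm.sign (Equiv.ofBijective w hw) • ιMulti R n b :=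
      AlternatingMap.map_perm _ b (Equiv.ofBijective w hw)
    rcases Int.units_eq_one_or (Equiv.Perm.sign (Equiv.ofBijective w hw)) with hs | hs <;> rw [hs] at e
    · exact Or.inl (e.trans (one_smul _ _))
    · exact Or.inr (e.trans (by simp))
  · simp only [Function.Injective, not_forall] at h
    obtain ⟨i, j, hij, hne⟩ := h
    exact Or.inl (AlternatingMap.map_eq_zero_of_eq _ (b ∘ w) (by simp [hij]) hne)

include b in
theorem top_generated (z : ↥(⋀[R]^n M)) : ∃ r : R, r • ιMulti R n b = z := by
  classical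
  have hz : z ∈ Submodule.span R (Set.range (b.exteriorPower n)) := by
    rw [Module.Basis.span_eq]; trivial
  induction hz using Submodule.span_induction with
  | zero => exact ⟨0, zero_smul _ _⟩
  | add x y _ _ hx hy =>
    obtain ⟨r, rfl⟩ := hx
    obtain ⟨s, rfl⟩ := hy
    exact ⟨r + s, add_smul _ _ _⟩
  | smul a x _ hx =>
    obtain ⟨r, rfl⟩ := hx
    exact ⟨a * r, mul_smul _ _ _⟩
  | mem x hx =>
    obtain ⟨s, rfl⟩ := hx
    rw [exteriorPower.basis_apply, exteriorPower.ιMulti_family]
    rcases ιMulti_comp_eq b (Set.powersetCard.ofFinEmbEquiv.symm s) with h | ⟨-, h | h⟩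
    · exact ⟨0, by rw [zero_smul, h]⟩
    · exact ⟨1, by rw [one_smul, h]⟩
    · exact ⟨-1, by rw [h]; exact neg_one_smul R (ιMulti R n b)⟩

/-- The pairing hits the dual basis. -/
theorem exists_dual_vec {p : ℕ} (hp : p ≤ n) (s : Set.powersetCard (Fin n) p) :
    ∃ y : ↥(⋀[R]^(n - p) M), ∀ s' : Set.powersetCard (Fin n) p,
      wedge (LinearMap.id : M →ₗ[R] M) p n (b.exteriorPower p s') y =
        if s' = s then ιMulti R n b else 0 := by
  classical
  let S : Finset (Fin n) := s.val
  have hc : Sᶜ.card = n - p := by rw [Finset.card_compl, Fintype.card_fin]; exact congrArg _ s.prop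
  let v : Fin (n - p) → Fin n := Sᶜ.orderEmbOfFin hc
  let u : Set.powersetCard (Fin n) p → Fin p → Fin n := fun s' => Set.powersetCard.ofFinEmbEquiv.symm s'
  let w : Set.powersetCard (Fin n) p → Fin n → Fin n :=
    fun s' => Fin.append (u s') v ∘ Fin.cast (Nat.add_sub_cancel' hp).symm
  have hv : Set.range v = ((Sᶜ : Finset (Fin n)) : Set (Fin n)) := Finset.range_orderEmbOfFin _ _
  have hu : ∀ s' i, i ∈ Set.range (u s') ↔ i ∈ s'.val := fun s' i =>
    Set.powersetCard.mem_range_ofFinEmbEquiv_symm_iff_mem s' i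
  have hinj : Function.Injective (w s) := by
    refine Function.Injective.comp (Fin.append_injective_iff.2 ⟨(Set.powersetCard.ofFinEmbEquiv.symm s).injective,
      (Sᶜ.orderEmbOfFin hc).injective, fun i j hij => ?_⟩) (Fin.cast_injective _)
    have h₁ : u s i ∈ S := (hu s _).1 ⟨i, rfl⟩
    have h₂ : v j ∈ Sᶜ := Finset.orderEmbOfFin_mem _ _ _
    exact Finset.mem_compl.1 h₂ (hij ▸ h₁)
  have hne : ∀ s', s' ≠ s → ¬ Function.Injective (w s') := by
    intro s' hs' hi
    have hi' : Function.Injective (Fin.append (u s') v) := fun a b' hab => by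
      have := @hi (Fin.cast (Nat.add_sub_cancel' hp) a) (Fin.cast (Nat.add_sub_cancel' hp) b') (by simpa [w] using hab)
      simpa using this
    obtain ⟨-, -, hd⟩ := Fin.append_injective_iff.1 hi'
    refine hs' (Subtype.ext (Finset.eq_of_subset_of_card_le (fun i hi => ?_) (le_of_eq (s.prop.trans s'.prop.symm))))
    by_contra hiS
    obtain ⟨a, rfl⟩ := (hu s' i).2 hi
    have : u s' a ∈ Set.range v := by rw [hv, Finset.mem_coe, Finset.mem_compl]; exact hiS
    obtain ⟨j, hj⟩ := this
    exact hd a j hj.symm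
  have hB : ∀ s' (y : ↥(⋀[R]^(n - p) M)), b.exteriorPower p s' = ιMulti R p (b ∘ u s') := fun s' _ => by
    rw [exteriorPower.basis_apply, exteriorPower.ιMulti_family]
  have hzero : ∀ s', s' ≠ s → ιMulti R n (b ∘ w s') = 0 := fun s' hs' =>
    (ιMulti_comp_eq b (w s')).resolve_right fun h => hne s' hs' h.1.1
  let y₀ := ιMulti R (n - p) (b ∘ v)
  have hy₀ : ∀ s', wedge (LinearMap.id : M →ₗ[R] M) p n (b.exteriorPower p s') y₀ = ιMulti R n (b ∘ w s') :=
    fun s' => by rw [hB s' y₀]; exact wedge_ιMulti b hp (u s') v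
  have hval : ιMulti R n (b ∘ w s) = ιMulti R n b ∨ ιMulti R n (b ∘ w s) = -ιMulti R n b := by
    have h := AlternatingMap.map_perm (ιMulti R n (M := M)) b (Equiv.ofBijective (w s) (Finite.injective_iff_bijective.1 hinj))
    rcases Int.units_eq_one_or (Equiv.Perm.sign (Equiv.ofBijective (w s) (Finite.injective_iff_bijective.1 hinj)))
      with hs | hs <;> rw [hs] at h
    · exact Or.inl (h.trans (one_smul _ _))
    · exact Or.inr (h.trans (by simp))
  rcases hval with h | h
  · refine ⟨y₀, fun s' => ?_⟩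
    rw [hy₀]
    split_ifs with hs'
    · rw [hs', h]
    · exact hzero s' hs'
  · refine ⟨-y₀, fun s' => ?_⟩
    rw [map_neg, hy₀]
    split_ifs with hs'
    · rw [hs', h, neg_neg]
    · rw [hzero s' hs', neg_zero]

include b in
/-- The wedge pairing into the top exterior power is perfect. -/
theorem bijective_wedge_flip {p : ℕ} (hp : p ≤ n) :
    Function.Bijective (wedge (LinearMap.id : M →ₗ[R] M) p n).flip := by
  classical
  cases subsingleton_or_nontrivial R
  · haveI := Module.subsingleton R ↥(⋀[R]^(n - p) M)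
    haveI := Module.subsingleton R (↥(⋀[R]^p M) →ₗ[R] ↥(⋀[R]^n M))
    exact ⟨Function.injective_of_subsingleton _, fun y => ⟨0, Subsingleton.elim _ _⟩⟩
  haveI : Module.Free R M := Module.Free.of_basis b
  haveI : Module.Finite R M := Module.Finite.of_basis b
  have hf : ∀ k, Module.Free R ↥(⋀[R]^k M) := fun k => Module.Free.of_basis (b.exteriorPower k)
  have hfin : ∀ k, Module.Finite R ↥(⋀[R]^k M) := fun k => Module.Finite.of_basis (b.exteriorPower k)
  haveI := hf p
  haveI := hf n
  haveI := hf (n - p)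
  haveI := hfin p
  haveI := hfin n
  haveI := hfin (n - p)
  refine OrzechProperty.bijective_of_surjective_of_finrank_le _ (fun f => ?_) (le_of_eq ?_)
  · choose y hy using exists_dual_vec b hp
    choose r hr using fun s => top_generated b (f (b.exteriorPower p s))
    refine ⟨∑ s, r s • y s, (b.exteriorPower p).ext fun s' => ?_⟩
    rw [LinearMap.flip_apply, map_sum, ← hr s']
    simp only [map_smul, hy, smul_ite, smul_zero, Finset.sum_ite_eq, Finset.mem_univ, if_true]
  · rw [Module.finrank_linearMap, exteriorPower.finrank_eq, exteriorPower.finrank_eq, exteriorPower.finrank_eq,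
      Module.finrank_eq_card_basis b, Fintype.card_fin, Nat.choose_self, mul_one, Nat.choose_symm hp]

end Groth.Agent.HodgeCI
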