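import Groth.Agent.HodgeCI.Basic
import Groth.Agent.HodgeCI.Wedge
import Groth.Agent.CurveRR.Zero
import Groth.Agent.W7Hull.HomAdj

/-!
# `⋀ⁿ⁻ᵖ E` is the sheaf of homomorphisms from `⋀ᵖ E` to `⋀ⁿ E`
-/

set_option autoImplicit false
set_option backward.isDefEq.respectTransparency false
set_option backward.isDefEq.respectTransparency.types false
set_option linter.style.haveILetI false
set_option linter.unusedSectionVars false
set_option maxHeartbeats 1000000

universe u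

open CategoryTheory CategoryTheory.Limits AlgebraicGeometry TopologicalSpace Opposite
open Groth.Agent.SGA6Ext
open Groth.Agent.QC (res resO res_res res_self res_smul app_res)
open Groth.Agent.WeakAssLib (mgerm mgerm_smul mgerm_res)
open TMul (tm)

noncomputable section

namespace Groth.Agent.HodgeCI

variable {X : Scheme.{u}}

/-- Linear maps out of a stalk are determined by the sections over an affine neighbourhood. -/
theorem stalkHom_ext_affine {F G : X.Modules} (hF : Coh.IsQCoh F) {V : X.Opens} (hV : IsAffineOpen V) {x : X}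
    (hx : x ∈ V) {f g : RefHull.StalkHom F G x} (h : ∀ a : Γ(F, V), f (mgerm F hx a) = g (mgerm F hx a)) :
    f = g := by
  refine LinearMap.ext fun v => ?_
  obtain ⟨a, s, ha, has⟩ := WeakAssLib.exists_germ hV (QC.isLoc_of_isQCoh hV (hM := hF)) hx v
  refine (WeakAssLib.isUnit_germ hV hx ha).smul_left_cancel.1 ?_
  rw [← map_smul, ← map_smul, has, h]

/-- Affine opens inside frames of size `n`. -/
def FrOpen (E : X.Modules) (n : ℕ) (V : X.Opens) : Prop :=
  IsAffineOpen V ∧ ∃ (U : X.Opens) (e : Fin n → Γ(E, U)), TMul.IsFrame e ∧ V ≤ U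

variable {E : X.Modules} {n : ℕ}

theorem isBase_frOpen (hE : FlatMod.IsFinLocFreeOfRank n E) : IsBase (FrOpen E n) := fun W x hx => by
  obtain ⟨U, e, hxU, he⟩ := CurveRR.exists_frame hE x
  obtain ⟨V, hV, hxV, hle⟩ := exists_isAffineOpen_mem_and_subset (X := X) (x := x) (U := W ⊓ U) ⟨hx, hxU⟩
  have hle' : V ≤ W ⊓ U := hle
  exact ⟨V, ⟨hV, U, e, he, hle'.trans inf_le_right⟩, hxV, hle'.trans inf_le_left⟩

variable {p : ℕ} {Lp Lq Ln : X.Modules} (φp : Phi p E Lp) (φq : Phi (n - p) E Lq) (φn : Phi n E Ln)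

/-- The wedge product, on an affine open. -/
def wdg (V : X.affineOpens) : Sec Lp V.1 →ₗ[Γ(X, V.1)] Sec Lq V.1 →ₗ[Γ(X, V.1)] Sec Ln V.1 :=
  ((wedge (LinearMap.id : Sec E V.1 →ₗ[Γ(X, V.1)] Sec E V.1) p n).compl₁₂ (φp V).toLinearMap
    (φq V).toLinearMap).compr₂ (φn V).symm.toLinearMap

theorem wdg_apply (V : X.affineOpens) (a : Sec Lp V.1) (c : Sec Lq V.1) :
    wdg φp φq φn V a c = (φn V).symm (wedge LinearMap.id p n (φp V a) (φq V c)) := rfl

variable (hp : p ≤ n) (hφp : PhiCompat φp) (hφq : PhiCompat φq) (hφn : PhiCompat φn)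

include hp hφp hφq hφn in
theorem wdg_res (U V : X.affineOpens) (h : V.1 ≤ U.1) (a : Sec Lp U.1) (c : Sec Lq U.1) :
    secRes Ln h (wdg φp φq φn U a c) = wdg φp φq φn V (secRes Lp h a) (secRes Lq h c) := by
  apply (φn V).injective
  rw [phi_res hφn U V h, wdg_apply, wdg_apply, LinearEquiv.apply_symm_apply, LinearEquiv.apply_symm_apply,
    phi_res hφp U V h, phi_res hφq U V h]
  exact extS_wedge (secRes E h) (secRes_smul E h) (secRes E h) (secRes_smul E h) LinearMap.id LinearMap.id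
    (fun _ => rfl) hp _ _

theorem wdg_perfect (hp : p ≤ n) (V : X.affineOpens) (hV : FrOpen E n V.1) :
    Function.Bijective (wdg φp φq φn V).flip := by
  obtain ⟨-, U, e, he, hle⟩ := hV
  let b : Module.Basis (Fin n) Γ(X, V.1) (Sec E V.1) := Module.Basis.ofEquivFun (he.equiv hle).symm
  have h := bijective_wedge_flip b hp
  have key : ((wdg φp φq φn V).flip : Sec Lq V.1 → (Sec Lp V.1 →ₗ[Γ(X, V.1)] Sec Ln V.1)) =
      (LinearEquiv.arrowCongr (φp V).symm (φn V).symm) ∘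
        (wedge (LinearMap.id : Sec E V.1 →ₗ[Γ(X, V.1)] Sec E V.1) p n).flip ∘ (φq V) := by
    funext c
    refine LinearMap.ext fun a => ?_
    rfl
  rw [key]
  exact (LinearEquiv.bijective _).comp (h.comp (LinearEquiv.bijective _))

omit hp in
include hφp hφq hφn in
theorem exists_iso_homSh (hp : p ≤ n) (hE : FlatMod.IsFinLocFreeOfRank n E) (hqp : Coh.IsQCoh Lp) :
    Nonempty (Lq ≅ RefHull.homSh Lp Ln) := by
  have hG := isBase_frOpen hE
  obtain ⟨μ, hμ⟩ := exists_bilHom hG (M := Lp) (N := Lq) (P := Ln) (fun V hV => wdg φp φq φn ⟨V, hV.1⟩)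
    (fun W V hW hV h a c => wdg_res φp φq φn hp hφp hφq hφn ⟨V, hV.1⟩ ⟨W, hW.1⟩ h a c)
  have hcur : ∀ (V : X.Opens) (hV : FrOpen E n V) (c : Γ(Lq, V)) (x : X) (hx : x ∈ V) (a : Γ(Lp, V)),
      ((W7Hull.cur μ).app V c).1 ⟨x, hx⟩ (mgerm Lp hx a) = mgerm Ln hx (wdg φp φq φn ⟨V, hV.1⟩ a c) := by
    intro V hV c x hx a
    rw [W7Hull.cur_app μ c hx le_rfl hx a, res_self Lq le_rfl c, hμ V hV]
    rfl
  haveI : Mono (W7Hull.cur μ) := mono_of_base hG _ fun V hV c c' h => by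
    refine (wdg_perfect φp φq φn hp ⟨V, hV.1⟩ hV).1 (LinearMap.ext fun a => RefStalk.germ_ext fun x hx => ?_)
    change mgerm Ln hx (wdg φp φq φn ⟨V, hV.1⟩ a c) = mgerm Ln hx (wdg φp φq φn ⟨V, hV.1⟩ a c')
    rw [← hcur V hV c x hx, ← hcur V hV c' x hx, h]
  haveI : Epi (W7Hull.cur μ) := epi_of_base hG _ fun V hV g => by
    let f : Γ(Lp, V) →ₗ[Γ(X, V)] Γ(Ln, V) :=
      { toFun := W7Hull.ev g
        map_add' := fun a a' => RefStalk.germ_ext fun y hy => by
          simp only [map_add, W7Hull.germ_ev]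
        map_smul' := fun r a => RefStalk.germ_ext fun y hy => by
          simp only [RingHom.id_apply, mgerm_smul, W7Hull.germ_ev, map_smul] }
    obtain ⟨c, hc⟩ := (wdg_perfect φp φq φn hp ⟨V, hV.1⟩ hV).2 f
    refine ⟨c, Subtype.ext (funext fun x => stalkHom_ext_affine hqp hV.1 x.2 fun a => ?_)⟩
    refine (hcur V hV c x.1 x.2 a).trans ?_
    refine (congrArg (mgerm Ln x.2) (LinearMap.congr_fun hc a)).trans ?_
    exact W7Hull.germ_ev g a x.2
  haveI := isIso_of_mono_of_epi (W7Hull.cur μ)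
  exact ⟨asIso (W7Hull.cur μ)⟩

omit φp φq φn hp in
/-- `⋀ⁿ⁻ᵖ E ≅ ℋom(⋀ᵖ E, ⋀ⁿ E)` for `E` locally free of rank `n`. -/
theorem nonempty_wedge_dual (hE : FlatMod.IsFinLocFreeOfRank n E) (hp : p ≤ n) {Lp Lq Ln : X.Modules}
    (hLp : ExtPow.IsExtPow p E Lp) (hLq : ExtPow.IsExtPow (n - p) E Lq) (hLn : ExtPow.IsExtPow n E Ln)
    [DCoh.HasSheafHom Lp] : Nonempty (Lq ≅ (DCoh.sheafHom Lp).obj Ln) := by
  obtain ⟨i⟩ := iso_of_isExtPow hLp (isExtPow_extSh E p (finLocFree_of_rank hE))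
  have hqp : Coh.IsQCoh Lp := LocFree.isQCoh_of_isFinLocFree
    (DQCoh.isFinLocFree_of_iso' i.symm (isFinLocFree_extSh E p (finLocFree_of_rank hE)))
  obtain ⟨φp, hφp⟩ := hLp
  obtain ⟨φq, hφq⟩ := hLq
  obtain ⟨φn, hφn⟩ := hLn
  obtain ⟨j⟩ := exists_iso_homSh φp φq φn hφp hφq hφn hp hE hqp
  exact ⟨j ≪≫ ((W7Hull.sheafHomIso Lp).app Ln).symm⟩

end Groth.Agent.HodgeCI
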