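import Groth.Agent.PnHodge.Euler
import Groth.Agent.PnHodge.Seq

/-!
# Graded sequences of exterior powers and their cohomology
-/

set_option autoImplicit false
set_option backward.isDefEq.respectTransparency false
set_option backward.isDefEq.respectTransparency.types false
set_option linter.style.haveILetI false
set_option linter.unusedSectionVars false
set_option maxHeartbeats 1000000

universe u

open CategoryTheory CategoryTheory.Limits AlgebraicGeometry TopologicalSpace Opposite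
open Groth.Agent.SGA6Ext
open Groth.Agent.CohFinite (hhMap hhEquiv tmap)

noncomputable section

namespace Groth.Agent.HodgeCI

variable {X : Scheme.{u}}

/-- A system of exterior powers for a short exact sequence of locally free modules. -/
theorem exists_sys {S : ShortComplex X.Modules} (hS : S.ShortExact) (h₁ : FlatMod.IsFinLocFree S.X₁)
    (h₂ : FlatMod.IsFinLocFree S.X₂) (h₃ : FlatMod.IsFinLocFree S.X₃) : Nonempty (Sys S) := by
  choose φM hφM using fun k => isExtPow_extSh S.X₁ k h₁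
  choose φE hφE using fun k => isExtPow_extSh S.X₂ k h₂
  choose φL hφL using fun k => isExtPow_extSh S.X₃ k h₃
  exact ⟨{
    L' := fun k => extSh S.X₁ k, L := fun k => extSh S.X₂ k, L'' := fun k => extSh S.X₃ k
    φ' := φM, φ := φE, φ'' := φL
    hφ' := hφM, hφ := hφE, hφ'' := hφL
    hL' := fun k => isFinLocFree_extSh _ k h₁, hL := fun k => isFinLocFree_extSh _ k h₂
    hL'' := fun k => isFinLocFree_extSh _ k h₃
    hS := hS, h₁ := h₁, h₂ := h₂, h₃ := h₃ }⟩

theorem iso_of_isExtPow {p : ℕ} {E L L' : X.Modules} (h : ExtPow.IsExtPow p E L) (h' : ExtPow.IsExtPow p E L') :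
    Nonempty (L ≅ L') := by
  obtain ⟨φ, hφ⟩ := h
  obtain ⟨φ', hφ'⟩ := h'
  exact nonempty_iso_of_phi (φ := φ) hφ (φ' := φ') hφ'

section Sys

variable {S : ShortComplex X.Modules} (D : Sys S)

theorem sys_left (k : ℕ) : ExtPow.IsExtPow k S.X₁ (D.L' k) := ⟨D.φ' k, D.hφ' k⟩

theorem sys_mid (k : ℕ) : ExtPow.IsExtPow k S.X₂ (D.L k) := ⟨D.φ k, D.hφ k⟩

theorem sys_right (k : ℕ) : ExtPow.IsExtPow k S.X₃ (D.L'' k) := ⟨D.φ'' k, D.hφ'' k⟩

theorem isIso_prj_top (p : ℕ) : IsIso (prj D p (p + 1)) := cokernel.π_of_zero (psi_eq_zero D p)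

/-- The last quotient is the exterior power of the last term. -/
theorem nonempty_Q_one (p : ℕ) : Nonempty (Q D p 1 ≅ D.L'' p) := by
  obtain ⟨e⟩ := iso_of_isExtPow (sys_left D 0) (isExtPow_zero _)
  haveI := (shortExact_gr D p 0 (Nat.zero_le _)).mono_f
  haveI : Epi (gamma D p 0) :=
    (shortExact_gr D p 0 (Nat.zero_le _)).exact.epi_f ((isZero_Q_zero D p).eq_of_tgt _ _)
  haveI : IsIso (gamma D p 0) := isIso_of_mono_of_epi _
  exact ⟨(asIso (gamma D p 0)).symm ≪≫ PicGrp.tensorModIso e (eqToIso (by rw [Nat.sub_zero])) ≪≫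
    TMul.leftUnitIso _⟩

end Sys

variable (A : Type u) [CommRing A] [X.Over (Spec (CommRingCat.of A))]

theorem subsingleton_iso {M N : X.Modules} (e : M ≅ N) (q : ℕ) (h : Subsingleton (Coh.HH X M q)) :
    Subsingleton (Coh.HH X N q) := CohQC.hh_subsingleton_of_iso e q h

/-- A kernel without cohomology in two adjacent degrees does not change cohomology. -/
theorem nonempty_g_equiv {S : ShortComplex X.Modules} (hS : S.ShortExact) (q : ℕ)
    (h : Subsingleton (Coh.HH X S.X₁ q)) (h' : Subsingleton (Coh.HH X S.X₁ (q + 1))) :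
    Nonempty (Coh.HH X S.X₂ q ≃ₗ[A] Coh.HH X S.X₃ q) := by
  refine ⟨LinearEquiv.ofBijective (hhMap A S.g q) ⟨?_, PnHodge.surjective_g (A := A) hS q h'⟩⟩
  refine LinearMap.ker_eq_bot.1 ?_
  rw [← PnHodge.range_f (A := A) hS q, LinearMap.range_eq_bot]
  exact LinearMap.ext fun x => by rw [h.elim x 0, map_zero]; rfl

/-- The graded pieces decide the cohomology of the middle exterior power. -/
theorem nonempty_mid_equiv {S : ShortComplex X.Modules} (D : Sys S) (G : X.Modules) (hG : FlatMod.IsFinLocFree G)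
    (p q : ℕ) (h : ∀ k, 1 ≤ k → k ≤ p → ∀ j, (j = q ∨ j = q + 1) →
      Subsingleton (Coh.HH X (CohB1.tensorMod (CohB1.tensorMod (D.L' k) (D.L'' (p - k))) G) j)) :
    Nonempty (Coh.HH X (CohB1.tensorMod (D.L p) G) q ≃ₗ[A] Coh.HH X (CohB1.tensorMod (D.L'' p) G) q) := by
  have key : ∀ j, j ≤ p → Nonempty (Coh.HH X (CohB1.tensorMod (Q D p (j + 1)) G) q ≃ₗ[A]
      Coh.HH X (CohB1.tensorMod (D.L'' p) G) q) := by
    intro j
    induction j with
    | zero =>
      intro _
      obtain ⟨e⟩ := nonempty_Q_one D p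
      exact ⟨hhEquiv A (PicGrp.tensorModIso e (Iso.refl _)) q⟩
    | succ j ih =>
      intro hj
      obtain ⟨e⟩ := ih (by omega)
      obtain ⟨f⟩ := nonempty_g_equiv A (PnReg.shortExact_tensor hG (shortExact_gr D p (j + 1) hj)) q
        (h (j + 1) (by omega) hj q (Or.inl rfl)) (h (j + 1) (by omega) hj (q + 1) (Or.inr rfl))
      exact ⟨f ≪≫ₗ e⟩
  obtain ⟨e⟩ := key p le_rfl
  haveI := isIso_prj_top D p
  exact ⟨hhEquiv A (PicGrp.tensorModIso (asIso (prj D p (p + 1))) (Iso.refl _)) q ≪≫ₗ e⟩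

/-- Exterior powers of a zero module vanish in positive degree. -/
theorem isZero_extPow_of_isZero {E L : X.Modules} (hE : IsZero E) {k : ℕ} (hk : 1 ≤ k)
    (hL : ExtPow.IsExtPow k E L) : IsZero L := by
  have hE' := DQCoh.isFinLocFree_of_isZero hE
  obtain ⟨i⟩ := iso_of_isExtPow hL (isExtPow_extSh E k hE')
  refine IsZero.of_iso (isZero_of_rank_zero (W7Strat.isFinLocFreeOfRank_of_frames fun x => ?_)) i
  let e : Fin 0 → Γ(E, (⊤ : X.Opens)) := fun j => j.elim0
  have he : TMul.IsFrame e := W7Strat.isFrame_of_bijective fun V hV => by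
    haveI : Subsingleton Γ(E, V) := ⟨fun a b => by
      have h := fun s : Γ(E, V) => congrArg (fun φ : E ⟶ E => φ.app V s) ((IsZero.iff_id_eq_zero _).1 hE)
      exact (h a).trans (h b).symm⟩
    exact ⟨Function.injective_of_subsingleton _, fun y => ⟨0, Subsingleton.elim _ _⟩⟩
  obtain ⟨f, hf⟩ := exists_frame_extSh E k he
  revert f
  rw [Nat.choose_eq_zero_of_lt hk]
  exact fun f hf => ⟨⊤, f, trivial, hf⟩

/-- Adding a line bundle summand, to exterior powers. -/
theorem subsingleton_extPow_succ {S : ShortComplex X.Modules} (D : Sys S)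
    (h₃ : FlatMod.IsFinLocFreeOfRank 1 S.X₃) (G : X.Modules) (hG : FlatMod.IsFinLocFree G) (p q : ℕ) (hp : 1 ≤ p)
    (hB : Subsingleton (Coh.HH X (CohB1.tensorMod (D.L' p) G) q))
    (hC : Subsingleton (Coh.HH X (CohB1.tensorMod (CohB1.tensorMod (D.L' (p - 1)) S.X₃) G) q)) :
    Subsingleton (Coh.HH X (CohB1.tensorMod (D.L p) G) q) := by
  obtain ⟨c, rfl⟩ : ∃ c, p = c + 1 := ⟨p - 1, by omega⟩
  have hz : ∀ k, k ≤ c → IsZero (Q D (c + 1) k) := by
    intro k
    induction k with
    | zero => exact fun _ => isZero_Q_zero D _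
    | succ k ih =>
      intro hk
      obtain ⟨i⟩ := iso_of_isExtPow (sys_right D (c + 1 - k)) (isExtPow_extSh S.X₃ (c + 1 - k) (finLocFree_of_rank h₃))
      exact PnReg.isZero_middle (shortExact_gr D (c + 1) k (by omega))
        (PnReg.isZero_tensor_right ((PnReg.isZero_extSh_line h₃ (by omega)).of_iso i) _) (ih (by omega))
  have hg := shortExact_gr D (c + 1) c (by omega)
  haveI := hg.mono_f
  haveI : Epi (gamma D (c + 1) c) := hg.exact.epi_f ((hz c le_rfl).eq_of_tgt _ _)
  haveI : IsIso (gamma D (c + 1) c) := isIso_of_mono_of_epi _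
  obtain ⟨e₁⟩ := iso_of_isExtPow (sys_right D 1) (isExtPow_one _)
  obtain ⟨e₀⟩ := iso_of_isExtPow (sys_right D 0) (isExtPow_zero _)
  haveI := isIso_prj_top D (c + 1)
  have hQ : Subsingleton (Coh.HH X (CohB1.tensorMod (Q D (c + 1) (c + 1)) G) q) :=
    subsingleton_iso (PicGrp.tensorModIso (PicGrp.tensorModIso (Iso.refl _)
      (e₁.symm ≪≫ eqToIso (by rw [Nat.add_sub_cancel_left])) ≪≫ asIso (gamma D (c + 1) c)) (Iso.refl _)) q hC
  refine subsingleton_iso (PicGrp.tensorModIso (asIso (prj D (c + 1) (c + 1 + 1))).symm (Iso.refl _)) q ?_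
  refine CohFinite.subsingleton_of_shortExact_mid (PnReg.shortExact_tensor hG (shortExact_gr D (c + 1) (c + 1) le_rfl)) q ?_ hQ
  exact subsingleton_iso (PicGrp.tensorModIso ((SecTwist.unitorR _).symm ≪≫ PicGrp.tensorModIso (Iso.refl _)
    (e₀.symm ≪≫ eqToIso (by rw [Nat.sub_self]))) (Iso.refl _)) q hB

end Groth.Agent.HodgeCI
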