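import Groth.Agent.HodgeCI.DivMain
import Groth.Agent.HodgeCI.Duality
import Groth.Agent.HodgeCI.CIMain
import Groth.Agent.CohFinite.Ample
import Groth.Agent.AmpleEmb.Closed
import Groth.Agent.SectRank.RelDim
import Groth.Agent.LefZero.Inverse
import Groth.Agent.SerrePn.HomTwist
import Groth.Agent.PnHodge.ExtCoh

/-!
# Applications: smooth divisors of high degree
-/

set_option autoImplicit false
set_option backward.isDefEq.respectTransparency false
set_option backward.isDefEq.respectTransparency.types false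
set_option linter.style.haveILetI false
set_option linter.unusedSectionVars false
set_option maxHeartbeats 1000000

universe u

open CategoryTheory CategoryTheory.Limits AlgebraicGeometry TopologicalSpace Opposite
open Groth.Agent.SGA6Ext

noncomputable section

namespace Groth.Agent.HodgeCI

variable {k : Type u} [Field k] {X : Scheme.{u}} [X.Over (Spec (CommRingCat.of k))]

theorem exists_frame_at {E : X.Modules} (hE : FlatMod.IsFinLocFree E) {U : X.Opens} {c : ℕ} (x : X) (hxU : x ∈ U)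
    (i : E.restrict U.ι ≅ FlatMod.freeMod (↑U) c) :
    ∃ (V : X.Opens) (e : Fin c → Γ(E, V)), x ∈ V ∧ TMul.IsFrame e := by
  obtain ⟨V, m, e, hxV, he⟩ := TMul.exists_isFrame hE x
  obtain ⟨b⟩ := LocFree.exists_basis_stalk i (LocFree.isQCoh_of_isFinLocFree hE) hxU
  let φ : (Fin m → X.presheaf.stalk x) →ₗ[X.presheaf.stalk x] E.presheaf.stalk x :=
    ∑ j, (LinearMap.proj j).smulRight (WeakAssLib.mgerm E hxV (e j))
  have hφ : Function.Bijective φ := by
    have : (φ : (Fin m → X.presheaf.stalk x) → _) = fun c => ∑ j, c j • WeakAssLib.mgerm E hxV (e j) := by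
      funext c; simp [φ]
    rw [this]
    exact he x hxV
  have h1 := (LinearEquiv.ofBijective φ hφ).finrank_eq
  rw [Module.finrank_pi, Fintype.card_fin, Module.finrank_eq_card_basis b, Fintype.card_ulift, Fintype.card_fin] at h1
  subst h1
  exact ⟨V, e, hxV, he⟩

/-- Forms of degree above the dimension of a smooth scheme vanish. -/
theorem isZero_forms_big [Smooth (X ↘ Spec (CommRingCat.of k))] [QuasiSeparated (X ↘ Spec (CommRingCat.of k))]
    (n : ℕ) (hn : topologicalKrullDim X = n) (b : ℕ) (E : X.Modules) (hb : n < b)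
    (hE : ExtPow.IsExtPow b (Omega.sheaf (X ↘ Spec (CommRingCat.of k))) E) : IsZero E := by
  let f := X ↘ Spec (CommRingCat.of k)
  have hU := fun x => OmegaLib.exists_free_rank_fibreDimAt (OmegaLib.isUniversal_dOmega f) x
  have hΩ : FlatMod.IsFinLocFree (Omega.sheaf f) := fun x =>
    let ⟨U, c, hx, hi, _⟩ := hU x
    ⟨U, c, hx, hi⟩
  obtain ⟨i⟩ := iso_of_isExtPow hE (isExtPow_extSh _ b hΩ)
  refine IsZero.of_iso (isZero_of_rank_zero (W7Strat.isFinLocFreeOfRank_of_frames fun x => ?_)) i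
  obtain ⟨U, c, hx, ⟨j⟩, hc⟩ := hU x
  have hcn : c ≤ n := by
    rw [CMChart.fibreDimAt_eq_localDim] at hc
    have : (c : WithBot ℕ∞) ≤ (n : WithBot ℕ∞) := hc ▸ ((iInf_le _ (⟨⊤, trivial⟩ : {U : Opens X // x ∈ U})).trans
      ((topologicalKrullDim_subspace_le X _).trans hn.le))
    exact_mod_cast this
  obtain ⟨V, e, hxV, he⟩ := exists_frame_at hΩ x hx j
  obtain ⟨g, hg⟩ := exists_frame_extSh _ b he
  revert g
  rw [Nat.choose_eq_zero_of_lt (by omega)]
  exact fun g hg => ⟨V, g, hxV, hg⟩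

/-- Duality moves an inverse twist to the sheaf of homomorphisms into the dualizing sheaf. -/
theorem neg_vanish_core {n N : ℕ} (ι : X ⟶ CohB1.ProjSpace N k) [IsClosedImmersion ι]
    (hι : ι ≫ CohB1.ProjSpace.toSpec N k = X ↘ Spec (CommRingCat.of k))
    [SmoothOfRelativeDimension n (X ↘ Spec (CommRingCat.of k))] [IsLocallyNoetherian X] (ω : X.Modules)
    (hω : ExtPow.IsExtPow n (Omega.sheaf (X ↘ Spec (CommRingCat.of k))) ω) (E M P : X.Modules)
    (hE : FlatMod.IsFinLocFree E) (w : CohB1.tensorMod M P ≅ Coh.structureModule X) (q : ℕ) (hq : q ≤ n)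
    (h : Subsingleton (Coh.HH X (CohB1.tensorMod (RefHull.homSh E ω) P) (n - q))) :
    Subsingleton (Coh.HH X (CohB1.tensorMod E M) q) := by
  haveI := W7Hull.hasSheafHom_sch (CohB1.tensorMod E M)
  obtain ⟨t, ht⟩ := ExtFund.exists_trace_smooth ι hι ω hω
  obtain ⟨e⟩ := SerrePn.duality_vb ι hι
    (fun x hx => ExtFund.cm_dim_of_smooth (X ↘ Spec (CommRingCat.of k)) n x hx) ω (ExtFund.isCoh_top ι hι hω) t ht
    (CohB1.tensorMod E M) (DerPerf.isFinLocFree_tensor hE
      (ResDesc.isFinLocFree_of_isInvertible (S2122.result M P w))) q hq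
  obtain ⟨s⟩ := SerrePn.nonempty_homSwap (L := P) (L' := M) (TMul.commIso _ _ ≪≫ w) w E ω
  obtain ⟨s'⟩ := SerrePn.nonempty_homTwist (L := P) (L' := M) (TMul.commIso _ _ ≪≫ w) w E ω
  haveI := e.toEquiv.subsingleton_congr.2
    (CohQC.hh_subsingleton_of_iso ((W7Hull.sheafHomIso (CohB1.tensorMod E M)).app ω ≪≫ s ≪≫ s').symm _ h)
  exact (Module.subsingleton_dual_iff (K := k)).1 inferInstance

/-- Forms twisted down by a high power of an ample sheaf have no cohomology below the dimension. -/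
theorem exists_neg_vanish {n N : ℕ} (ι : X ⟶ CohB1.ProjSpace N k) [IsClosedImmersion ι]
    (hι : ι ≫ CohB1.ProjSpace.toSpec N k = X ↘ Spec (CommRingCat.of k))
    [SmoothOfRelativeDimension n (X ↘ Spec (CommRingCat.of k))] (L : X.Modules) (hL : CohB1.IsAmple L) :
    ∃ d₀ : ℕ, ∀ d : ℕ, d₀ ≤ d → ∀ M : X.Modules, ClSub.IsInverseOf M (CohB1.tensorPow L d) →
      ∀ p q : ℕ, q < n → ∀ E : X.Modules, ExtPow.IsExtPow p (Omega.sheaf (X ↘ Spec (CommRingCat.of k))) E →
        Subsingleton (Coh.HH X (CohB1.tensorMod E M) q) := by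
  classical
  haveI := ExtFund.isProper_of_closed ι hι
  haveI := CurveRR.isNoetherian_of_proper k X
  have hΩr := ExtFund.isFinLocFreeOfRank_omega (X ↘ Spec (CommRingCat.of k)) n
  have hΩ := SGA6Ext.finLocFree_of_rank hΩr
  let ω := extSh (Omega.sheaf (X ↘ Spec (CommRingCat.of k))) n
  have hω : ExtPow.IsExtPow n (Omega.sheaf (X ↘ Spec (CommRingCat.of k))) ω := isExtPow_extSh _ n hΩ
  have hωc := ExtFund.isCoh_top ι hι hω
  have hH : ∀ p, Coh.IsCoh (RefHull.homSh (extSh (Omega.sheaf (X ↘ Spec (CommRingCat.of k))) p) ω) := fun p =>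
    RefStalk.isCoh_homSh ⟨LocFree.isQCoh_of_isFinLocFree (isFinLocFree_extSh _ p hΩ),
      LocFree.isFT_of_isFinLocFree (isFinLocFree_extSh _ p hΩ)⟩ hωc
  choose n₀ hn₀ using fun p => CohFinite.vanish_ample (X ↘ Spec (CommRingCat.of k)) hL (hH p)
  refine ⟨(Finset.range (n + 1)).sup n₀, fun d hd M hM p q hq E hE => ?_⟩
  obtain ⟨w⟩ := hM
  rcases lt_or_ge n p with hp | hp
  · exact PnHodge.subsingleton_hh_of_isZero
      ((PnReg.isZero_tensor_right (isZero_extPow_of_rank hΩr hp hE) _).of_iso (TMul.commIso _ _)) q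
  have hMi : PicF.IsInvertible M := S2122.result _ _ w
  obtain ⟨i⟩ := iso_of_isExtPow hE (isExtPow_extSh _ p hΩ)
  refine CohQC.hh_subsingleton_of_iso (PicGrp.tensorModIso i.symm (Iso.refl M)) q ?_
  refine neg_vanish_core ι hι ω hω _ M _ (isFinLocFree_extSh _ p hΩ) w q hq.le ?_
  obtain ⟨j, hj⟩ : ∃ j, n - q = j + 1 := ⟨n - q - 1, by omega⟩
  rw [hj]
  exact hn₀ p d ((Finset.le_sup (Finset.mem_range.2 (by omega))).trans hd) j

/-- The comparison for a smooth divisor with inverse-twisted ambient vanishing. -/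
theorem exists_divisor_map [IsProper (X ↘ Spec (CommRingCat.of k))]
    (hΩ : FlatMod.IsFinLocFree (Omega.sheaf (X ↘ Spec (CommRingCat.of k))))
    (I : X.IdealSheafData) [I.subscheme.Over (Spec (CommRingCat.of k))]
    (hover : I.subscheme ↘ Spec (CommRingCat.of k) = I.subschemeι ≫ X ↘ Spec (CommRingCat.of k))
    [Smooth (I.subscheme ↘ Spec (CommRingCat.of k))] (L : X.Modules) (d r : ℕ)
    (hI : ClSub.IsInverseOf (ClSub.idealMod I) (CohB1.tensorPow L d))
    (hvan : ∀ m : ℕ, 1 ≤ m → ∀ M : X.Modules, ClSub.IsInverseOf M (CohB1.tensorPow L (d * m)) →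
      ∀ p q : ℕ, p + q ≤ r → ∀ E : X.Modules, ExtPow.IsExtPow p (Omega.sheaf (X ↘ Spec (CommRingCat.of k))) E →
        Subsingleton (Coh.HH X (CohB1.tensorMod E M) q))
    (p q : ℕ) (hpq : p + q ≤ r) (E : X.Modules)
    (hE : ExtPow.IsExtPow p (Omega.sheaf (X ↘ Spec (CommRingCat.of k))) E) (W : I.subscheme.Modules)
    (hWp : ExtPow.IsExtPow p (Omega.sheaf (I.subscheme ↘ Spec (CommRingCat.of k))) W) :
    (p + q + 1 ≤ r → Module.finrank k (Coh.HH X E q) = Module.finrank k (Coh.HH I.subscheme W q)) ∧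
      Module.finrank k (Coh.HH X E q) ≤ Module.finrank k (Coh.HH I.subscheme W q) := by
  haveI : IsProper (I.subscheme ↘ Spec (CommRingCat.of k)) := by rw [hover]; infer_instance
  haveI := CurveRR.isNoetherian_of_proper k I.subscheme
  obtain ⟨w⟩ := hI
  have hJ : PicF.IsInvertible (ClSub.idealMod I) := S2122.result _ _ w
  have hW : FlatMod.IsFinLocFree (Omega.sheaf (I.subscheme ↘ Spec (CommRingCat.of k))) := fun x =>
    let ⟨U, c, hx, hi, _⟩ :=
      OmegaLib.exists_free_rank_fibreDimAt (OmegaLib.isUniversal_dOmega (I.subscheme ↘ Spec (CommRingCat.of k))) x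
    ⟨U, c, hx, hi⟩
  have hv : ∀ m p q : ℕ, 1 ≤ m → p + q ≤ r → ∀ E, ExtPow.IsExtPow p (Omega.sheaf (X ↘ Spec (CommRingCat.of k))) E →
      Subsingleton (Coh.HH X (CohB1.tensorMod E (CohB1.tensorPow (ClSub.idealMod I) m)) q) :=
    fun m p q hm hpq E hE => by
      obtain ⟨c⟩ := nonempty_pow_cancel (TMul.commIso _ _ ≪≫ w : CohB1.tensorMod (CohB1.tensorPow L d) (ClSub.idealMod I) ≅ _) m
      obtain ⟨e⟩ := TMul.nonempty_powMulIso L d m
      exact hvan m hm _ ⟨PicGrp.tensorModIso (Iso.refl _) e.symm ≪≫ c⟩ p q hpq E hE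
  obtain ⟨φ, hinj, hsurj⟩ := exists_forms_map k I hover hJ hΩ hW r hv p q hpq E hE W hWp
  haveI : Module.Finite k (Coh.HH I.subscheme W q) := by
    obtain ⟨i⟩ := iso_of_isExtPow hWp (isExtPow_extSh _ p hW)
    have hWf : FlatMod.IsFinLocFree W := DQCoh.isFinLocFree_of_iso' i.symm (isFinLocFree_extSh _ p hW)
    exact CohFinite.finite_proper k I.subscheme W ⟨LocFree.isQCoh_of_isFinLocFree hWf, LocFree.isFT_of_isFinLocFree hWf⟩ q
  exact ⟨fun h => (LinearEquiv.ofBijective φ ⟨hinj, hsurj h⟩).finrank_eq, LinearMap.finrank_le_finrank_of_injective hinj⟩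

end Groth.Agent.HodgeCI

namespace Groth.Agent.HodgeCI

variable {k : Type u} [Field k] {X : Scheme.{u}} [X.Over (Spec (CommRingCat.of k))]
  [IsProper (X ↘ Spec (CommRingCat.of k))] [Smooth (X ↘ Spec (CommRingCat.of k))]

theorem exists_high_bound (n : ℕ) (hn : topologicalKrullDim X = n) (L : X.Modules) (hL : CohB1.IsAmple L) :
    ∃ m₀ : ℕ, ∀ m : ℕ, m₀ ≤ m → ∀ (I : X.IdealSheafData) [I.subscheme.Over (Spec (CommRingCat.of k))],
      I.subscheme ↘ Spec (CommRingCat.of k) = I.subschemeι ≫ X ↘ Spec (CommRingCat.of k) →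
      Smooth (I.subscheme ↘ Spec (CommRingCat.of k)) →
      ClSub.IsInverseOf (ClSub.idealMod I) (CohB1.tensorPow L m) →
      ∀ a b : ℕ, n ≤ a + b → ∀ W : I.subscheme.Modules,
        ExtPow.IsExtPow b (Omega.sheaf (I.subscheme ↘ Spec (CommRingCat.of k))) W →
        Subsingleton (Coh.HH X (CohB1.tensorMod ((Coh.push I.subschemeι).obj W) (CohB1.tensorPow L m)) a) := by
  classical
  haveI := CurveRR.isNoetherian_of_proper k X
  have hfree : ∀ {Z : Scheme.{u}} (f : Z ⟶ Spec (CommRingCat.of k)) [Smooth f] [QuasiSeparated f],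
      FlatMod.IsFinLocFree (Omega.sheaf f) := fun {Z} f _ _ x =>
    let ⟨U, c, hx, hi, _⟩ := OmegaLib.exists_free_rank_fibreDimAt (OmegaLib.isUniversal_dOmega f) x
    ⟨U, c, hx, hi⟩
  have hΩ := hfree (X ↘ Spec (CommRingCat.of k))
  choose n₀ hn₀ using fun p => CohFinite.vanish_ample (X ↘ Spec (CommRingCat.of k)) hL
    (M := extSh (Omega.sheaf (X ↘ Spec (CommRingCat.of k))) p)
    ⟨LocFree.isQCoh_of_isFinLocFree (isFinLocFree_extSh _ p hΩ), LocFree.isFT_of_isFinLocFree (isFinLocFree_extSh _ p hΩ)⟩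
  refine ⟨(Finset.range (n + 1)).sup n₀, fun m hm I _ hover hsm hI a b hab W hW => ?_⟩
  haveI := hsm
  haveI : IsProper (I.subscheme ↘ Spec (CommRingCat.of k)) := by rw [hover]; infer_instance
  obtain ⟨w⟩ := hI
  have hJ : PicF.IsInvertible (ClSub.idealMod I) := S2122.result _ _ w
  have hP : PicF.IsInvertible (CohB1.tensorPow L m) := TMul.isInvertible_tensorPow hL.1 m
  have hWY := hfree (I.subscheme ↘ Spec (CommRingCat.of k))
  have hpos : ∀ r p a : ℕ, 1 ≤ r → 1 ≤ a → ∀ E, ExtPow.IsExtPow p (Omega.sheaf (X ↘ Spec (CommRingCat.of k))) E →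
      Subsingleton (Coh.HH X (CohB1.tensorMod E (CohB1.tensorPow (CohB1.tensorPow L m) r)) a) := by
    intro r p a hr ha E hE
    rcases lt_or_ge n p with hp | hp
    · exact PnHodge.subsingleton_hh_of_isZero
        ((PnReg.isZero_tensor_right (isZero_forms_big n hn p E hp hE) _).of_iso (TMul.commIso _ _)) a
    obtain ⟨i⟩ := iso_of_isExtPow hE (isExtPow_extSh _ p hΩ)
    obtain ⟨e⟩ := TMul.nonempty_powMulIso L m r
    refine CohQC.hh_subsingleton_of_iso (PicGrp.tensorModIso i e).symm a ?_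
    obtain ⟨c, rfl⟩ : ∃ c, a = c + 1 := ⟨a - 1, by omega⟩
    exact hn₀ p _ (((Finset.le_sup (Finset.mem_range.2 (by omega))).trans hm).trans (Nat.le_mul_of_pos_right _ hr)) c
  have h := high_vanish k I hover hJ hΩ hWY n (fun b E => isZero_forms_big n hn b E) _ ⟨w⟩ hpos a b 1 hab le_rfl W hW
  obtain ⟨i⟩ := iso_of_isExtPow hW (isExtPow_extSh _ b hWY)
  haveI : W.IsQuasicoherent :=
    LocFree.isQCoh_of_isFinLocFree (DQCoh.isFinLocFree_of_iso' i.symm (isFinLocFree_extSh _ b hWY))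
  obtain ⟨e⟩ := SerrePn.nonempty_hh_pushTwist k I.subschemeι hover.symm W hP a
  exact e.toEquiv.subsingleton_congr.1
    (CohQC.hh_subsingleton_of_iso (PicGrp.tensorModIso (Iso.refl W) (TMul.leftUnitIso _)) a h)

theorem exists_low_bound [IrreducibleSpace X] (n : ℕ) (hn : topologicalKrullDim X = n) (L : X.Modules)
    (hL : CohB1.IsAmple L) :
    ∃ m₀ : ℕ, ∀ m : ℕ, m₀ ≤ m → ∀ (I : X.IdealSheafData) [I.subscheme.Over (Spec (CommRingCat.of k))],
      I.subscheme ↘ Spec (CommRingCat.of k) = I.subschemeι ≫ X ↘ Spec (CommRingCat.of k) →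
      Smooth (I.subscheme ↘ Spec (CommRingCat.of k)) →
      ClSub.IsInverseOf (ClSub.idealMod I) (CohB1.tensorPow L m) →
      ∀ p q : ℕ, p + q + 1 ≤ n → ∀ (E : X.Modules) (W : I.subscheme.Modules),
        ExtPow.IsExtPow p (Omega.sheaf (X ↘ Spec (CommRingCat.of k))) E →
        ExtPow.IsExtPow p (Omega.sheaf (I.subscheme ↘ Spec (CommRingCat.of k))) W →
        (p + q + 1 < n → Module.finrank k (Coh.HH X E q) =
            Module.finrank k (Coh.HH X ((Coh.push I.subschemeι).obj W) q)) ∧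
          Module.finrank k (Coh.HH X E q) ≤ Module.finrank k (Coh.HH X ((Coh.push I.subschemeι).obj W) q) := by
  haveI := SectRank.smoothOfRelativeDimension_of_dim (X ↘ Spec (CommRingCat.of k)) hn
  obtain ⟨N, _, ι, _, hι, hcl, -⟩ := AmpleEmb.exists_closedImmersion_projSpace (X ↘ Spec (CommRingCat.of k)) hL
  haveI := hcl
  obtain ⟨d₀, hd₀⟩ := exists_neg_vanish (n := n) ι hι L hL
  refine ⟨d₀, fun m hm I _ hover hsm hI p q hpq E W hE hW => ?_⟩
  haveI := hsm
  haveI : IsProper (I.subscheme ↘ Spec (CommRingCat.of k)) := by rw [hover]; infer_instance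
  have hΩ := SGA6Ext.finLocFree_of_rank (ExtFund.isFinLocFreeOfRank_omega (X ↘ Spec (CommRingCat.of k)) n)
  obtain ⟨h₁, h₂⟩ := exists_divisor_map hΩ I hover L m (n - 1) hI
    (fun c hc M hM p q h E hE => hd₀ (m * c) (hm.trans (Nat.le_mul_of_pos_right _ hc)) M hM p q (by omega) E hE)
    p q (by omega) E hE W hW
  have hWY : FlatMod.IsFinLocFree (Omega.sheaf (I.subscheme ↘ Spec (CommRingCat.of k))) := fun x =>
    let ⟨U, c, hx, hi, _⟩ :=
      OmegaLib.exists_free_rank_fibreDimAt (OmegaLib.isUniversal_dOmega (I.subscheme ↘ Spec (CommRingCat.of k))) x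
    ⟨U, c, hx, hi⟩
  obtain ⟨i⟩ := iso_of_isExtPow hW (isExtPow_extSh _ p hWY)
  haveI : W.IsQuasicoherent :=
    LocFree.isQCoh_of_isFinLocFree (DQCoh.isFinLocFree_of_iso' i.symm (isFinLocFree_extSh _ p hWY))
  obtain ⟨e⟩ := CohFinite.hh_push_linear k I.subschemeι hover.symm W
    (CohQC.directAcyclic_of_isAffineHom I.subschemeι W) q
  rw [show Module.finrank k (Coh.HH X ((Coh.push I.subschemeι).obj W) q) = _ from e.finrank_eq.symm]
  exact ⟨fun h => h₁ (by omega), h₂⟩

end Groth.Agent.HodgeCI
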