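import Groth.Agent.HodgeCI.Div
import Groth.Agent.S2122
import Groth.Agent.TMul.Pullback

/-!
# Lefschetz type comparisons of Hodge cohomology along a smooth divisor
-/

set_option autoImplicit false
set_option backward.isDefEq.respectTransparency false
set_option backward.isDefEq.respectTransparency.types false
set_option linter.style.haveILetI false
set_option linter.unusedSectionVars false
set_option maxHeartbeats 1000000

universe u

open CategoryTheory CategoryTheory.Limits AlgebraicGeometry TopologicalSpace Opposite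
open Groth.Agent.SGA6Ext
open Groth.Agent.CohFinite (hhMap hhEquiv tmap)

noncomputable section

namespace Groth.Agent.HodgeCI

/-- `L ⊗ (E ⊗ L^m) ≅ E ⊗ L^(m+1)`. -/
def absorbIso {X : Scheme.{u}} (L E : X.Modules) (m : ℕ) :
    CohB1.tensorMod L (CohB1.tensorMod E (CohB1.tensorPow L m)) ≅ CohB1.tensorMod E (CohB1.tensorPow L (m + 1)) :=
  TMul.commIso _ _ ≪≫ TMul.assocIso _ _ _

variable (k : Type u) [Field k] {X : Scheme.{u}} [X.Over (Spec (CommRingCat.of k))] (I : X.IdealSheafData)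
  [I.subscheme.Over (Spec (CommRingCat.of k))]
  (hover : I.subscheme ↘ Spec (CommRingCat.of k) = I.subschemeι ≫ X ↘ Spec (CommRingCat.of k))
  [Smooth (I.subscheme ↘ Spec (CommRingCat.of k))] [QuasiSeparated (X ↘ Spec (CommRingCat.of k))]
  [QuasiSeparated (I.subscheme ↘ Spec (CommRingCat.of k))]
  (hJ : PicF.IsInvertible (ClSub.idealMod I))
  (hΩ : FlatMod.IsFinLocFree (Omega.sheaf (X ↘ Spec (CommRingCat.of k))))
  (hW : FlatMod.IsFinLocFree (Omega.sheaf (I.subscheme ↘ Spec (CommRingCat.of k))))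


variable (r : ℕ)
  (hvan : ∀ m p q : ℕ, 1 ≤ m → p + q ≤ r → ∀ E, ExtPow.IsExtPow p (Omega.sheaf (X ↘ Spec (CommRingCat.of k))) E →
    Subsingleton (Coh.HH X (CohB1.tensorMod E (CohB1.tensorPow (ClSub.idealMod I) m)) q))

include hover hJ hΩ hvan in
theorem res_vanish_pow {p q m : ℕ} (hm : 1 ≤ m) (hpq : p + q + 1 ≤ r) {E : X.Modules} (hE : ExtPow.IsExtPow p (Omega.sheaf (X ↘ Spec (CommRingCat.of k))) E)
    (hEf : FlatMod.IsFinLocFree E) :
    Subsingleton (Coh.HH I.subscheme ((Scheme.Modules.pullback I.subschemeι).obj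
      (CohB1.tensorMod E (CohB1.tensorPow (ClSub.idealMod I) m))) q) :=
  res_vanish (A := k) I hover _ (DerPerf.isFinLocFree_tensor hEf (isFinLocFree_pow hJ m)) q
    (hvan m p q hm (by omega) E hE)
    (CohQC.hh_subsingleton_of_iso (absorbIso _ _ _).symm (q + 1) (hvan (m + 1) p (q + 1) (by omega) (by omega) E hE))

include hover hJ hΩ hW hvan in
theorem low_vanish : ∀ p q m : ℕ, 1 ≤ m → p + q + 1 ≤ r → ∀ W, ExtPow.IsExtPow p (Omega.sheaf (I.subscheme ↘ Spec (CommRingCat.of k))) W →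
    Subsingleton (Coh.HH I.subscheme (CohB1.tensorMod W
      (CohB1.tensorPow ((Scheme.Modules.pullback I.subschemeι).obj (ClSub.idealMod I)) m)) q) := by
  intro p
  induction p with
  | zero =>
    intro q m hm hq W hW0
    obtain ⟨i⟩ := iso_of_isExtPow hW0 (isExtPow_zero _)
    obtain ⟨e⟩ := TMul.nonempty_pullPowIso I.subschemeι (ClSub.idealMod I) m
    refine CohQC.hh_subsingleton_of_iso ((Scheme.Modules.pullback I.subschemeι).mapIso (TMul.leftUnitIso _) ≪≫ e.symm ≪≫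
      (TMul.leftUnitIso _).symm ≪≫ PicGrp.tensorModIso i.symm (Iso.refl _)) q ?_
    exact res_vanish_pow k I hover hJ hΩ r hvan hm hq (isExtPow_zero _) (ResDesc.isFinLocFree_structureModule X)
  | succ p ih =>
    intro q m hm hq W' hW'
    obtain ⟨W, hWp⟩ : ∃ W, ExtPow.IsExtPow p (Omega.sheaf (I.subscheme ↘ Spec (CommRingCat.of k))) W := ⟨_, isExtPow_extSh _ p hW⟩
    have hE := isExtPow_extSh (Omega.sheaf (X ↘ Spec (CommRingCat.of k))) (p + 1) hΩ
    obtain ⟨T, hT, ⟨a⟩, ⟨b⟩, ⟨c⟩⟩ := exists_forms_seq (A := k) I hover hJ hΩ hW p hE hWp hW'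
    obtain ⟨e⟩ := TMul.nonempty_pullPowIso I.subschemeι (ClSub.idealMod I) m
    have hN := PicLoc.isInvertible_pullback I.subschemeι hJ
    refine CohQC.hh_subsingleton_of_iso (PicGrp.tensorModIso c (Iso.refl _)) q
      (CohFinite.subsingleton_of_shortExact (PnReg.shortExact_tensor (isFinLocFree_pow hN m) hT) q ?_ ?_)
    · exact CohQC.hh_subsingleton_of_iso ((Groth.Agent.KFlat.pullTensorIso I.subschemeι _ _).symm ≪≫
        PicGrp.tensorModIso b.symm e.symm) q
        (res_vanish_pow k I hover hJ hΩ r hvan hm hq hE (isFinLocFree_extSh _ _ hΩ))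
    · exact CohQC.hh_subsingleton_of_iso ((absorbIso _ _ _).symm ≪≫ (TMul.assocIso _ _ _).symm ≪≫
        PicGrp.tensorModIso a.symm (Iso.refl _)) (q + 1) (ih (q + 1) (m + 1) (by omega) (by omega) W hWp)

include hover hJ hΩ hW hvan in
/-- The Lefschetz comparison. -/
theorem exists_forms_map (p q : ℕ) (hpq : p + q ≤ r) (E : X.Modules) (hE : ExtPow.IsExtPow p (Omega.sheaf (X ↘ Spec (CommRingCat.of k))) E)
    (W : I.subscheme.Modules) (hWp : ExtPow.IsExtPow p (Omega.sheaf (I.subscheme ↘ Spec (CommRingCat.of k))) W) :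
    ∃ φ : Coh.HH X E q →ₗ[k] Coh.HH I.subscheme W q,
      Function.Injective φ ∧ (p + q + 1 ≤ r → Function.Surjective φ) := by
  obtain ⟨i₀⟩ := iso_of_isExtPow hE (isExtPow_extSh (Omega.sheaf (X ↘ Spec (CommRingCat.of k))) p hΩ)
  have hEf : FlatMod.IsFinLocFree E := DQCoh.isFinLocFree_of_iso' i₀.symm (isFinLocFree_extSh _ _ hΩ)
  have hv : ∀ j, p + j ≤ r → Subsingleton (Coh.HH X (CohB1.tensorMod (ClSub.idealMod I) E) j) := fun j hj =>
    CohQC.hh_subsingleton_of_iso (PicGrp.tensorModIso (Iso.refl E) (TMul.leftUnitIso (ClSub.idealMod I)) ≪≫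
      TMul.commIso _ _) j (hvan 1 p j le_rfl hj E hE)
  obtain ⟨φ, hφ, hφ'⟩ := exists_res_map (A := k) I hover E hEf q (hv q hpq)
  rcases p with _ | p
  · obtain ⟨i⟩ := iso_of_isExtPow hE (isExtPow_zero _)
    obtain ⟨j⟩ := iso_of_isExtPow hWp (isExtPow_zero _)
    let e := hhEquiv k ((Scheme.Modules.pullback I.subschemeι).mapIso i ≪≫ PicLoc.pullbackStructureIso I.subschemeι ≪≫ j.symm) q
    exact ⟨e.toLinearMap ∘ₗ φ, e.injective.comp hφ, fun h => e.surjective.comp (hφ' (hv (q + 1) (by omega)))⟩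
  · obtain ⟨W₀, hW₀⟩ : ∃ W₀, ExtPow.IsExtPow p (Omega.sheaf (I.subscheme ↘ Spec (CommRingCat.of k))) W₀ := ⟨_, isExtPow_extSh _ p hW⟩
    obtain ⟨T, hT, ⟨a⟩, ⟨b⟩, ⟨c⟩⟩ := exists_forms_seq (A := k) I hover hJ hΩ hW p hE hW₀ hWp
    have hleft : ∀ j, p + j + 1 ≤ r → Subsingleton (Coh.HH I.subscheme T.X₁ j) := fun j hj =>
      CohQC.hh_subsingleton_of_iso (PicGrp.tensorModIso (Iso.refl W₀) (TMul.leftUnitIso _) ≪≫
        TMul.commIso _ _ ≪≫ a.symm) j (low_vanish k I hover hJ hΩ hW r hvan p j 1 le_rfl hj W₀ hW₀)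
    let eb := hhEquiv k b.symm q
    let ec := hhEquiv k c q
    exact ⟨ec.toLinearMap ∘ₗ hhMap k T.g q ∘ₗ eb.toLinearMap ∘ₗ φ,
      ec.injective.comp ((injective_g k hT q (hleft q (by omega))).comp (eb.injective.comp hφ)),
      fun h => ec.surjective.comp ((PnHodge.surjective_g (A := k) hT q (hleft (q + 1) (by omega))).comp
        (eb.surjective.comp (hφ' (hv (q + 1) (by omega)))))⟩

omit hvan in
include hover hJ hΩ hW in
/-- Vanishing for forms on a divisor twisted by an ample enough sheaf. -/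
theorem high_vanish (n : ℕ) (hbig : ∀ b E, n < b → ExtPow.IsExtPow b (Omega.sheaf (X ↘ Spec (CommRingCat.of k))) E → IsZero E)
    (P : X.Modules) (hP : ClSub.IsInverseOf (ClSub.idealMod I) P)
    (hpos : ∀ r p a : ℕ, 1 ≤ r → 1 ≤ a → ∀ E, ExtPow.IsExtPow p (Omega.sheaf (X ↘ Spec (CommRingCat.of k))) E →
      Subsingleton (Coh.HH X (CohB1.tensorMod E (CohB1.tensorPow P r)) a)) :
    ∀ a b r : ℕ, n ≤ a + b → 1 ≤ r → ∀ W, ExtPow.IsExtPow b (Omega.sheaf (I.subscheme ↘ Spec (CommRingCat.of k))) W →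
      Subsingleton (Coh.HH I.subscheme (CohB1.tensorMod W
        (CohB1.tensorPow ((Scheme.Modules.pullback I.subschemeι).obj P) r)) a) := by
  obtain ⟨w⟩ := hP
  have hPi : PicF.IsInvertible P := S2122.result P (ClSub.idealMod I) (TMul.commIso _ _ ≪≫ w)
  have hN := PicLoc.isInvertible_pullback I.subschemeι hPi
  let wY : CohB1.tensorMod ((Scheme.Modules.pullback I.subschemeι).obj (ClSub.idealMod I)) ((Scheme.Modules.pullback I.subschemeι).obj P) ≅
      Coh.structureModule I.subscheme :=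
    Groth.Agent.KFlat.pullTensorIso I.subschemeι _ _ ≪≫ (Scheme.Modules.pullback I.subschemeι).mapIso w ≪≫ PicLoc.pullbackStructureIso I.subschemeι
  intro a
  induction a with
  | zero =>
    intro b r hab hr W hWb
    obtain ⟨W', hW'⟩ : ∃ W', ExtPow.IsExtPow (b + 1) (Omega.sheaf (I.subscheme ↘ Spec (CommRingCat.of k))) W' := ⟨_, isExtPow_extSh _ _ hW⟩
    have hE := isExtPow_extSh (Omega.sheaf (X ↘ Spec (CommRingCat.of k))) (b + 1) hΩ
    obtain ⟨T, hT, ⟨e₁⟩, ⟨e₂⟩, -⟩ := exists_forms_seq (A := k) I hover hJ hΩ hW b hE hWb hW'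
    haveI := hT.mono_f
    have hz : IsZero T.X₁ := IsZero.of_mono T.f ((Functor.map_isZero _ (hbig _ _ (by omega) hE)).of_iso e₂)
    let u : W ≅ CohB1.tensorMod T.X₁ ((Scheme.Modules.pullback I.subschemeι).obj P) :=
      (SecTwist.unitorR W).symm ≪≫ PicGrp.tensorModIso (Iso.refl W) wY.symm ≪≫ (TMul.assocIso _ _ _).symm ≪≫
        PicGrp.tensorModIso (TMul.commIso _ _ ≪≫ e₁.symm) (Iso.refl _)
    have hz' : IsZero W := ((PnReg.isZero_tensor_right hz _).of_iso (TMul.commIso _ _)).of_iso u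
    exact PnHodge.subsingleton_hh_of_isZero ((PnReg.isZero_tensor_right hz' _).of_iso (TMul.commIso _ _)) 0
  | succ a ih =>
    intro b r hab hr W hWb
    obtain ⟨W', hW'⟩ : ∃ W', ExtPow.IsExtPow (b + 1) (Omega.sheaf (I.subscheme ↘ Spec (CommRingCat.of k))) W' := ⟨_, isExtPow_extSh _ _ hW⟩
    have hE := isExtPow_extSh (Omega.sheaf (X ↘ Spec (CommRingCat.of k))) (b + 1) hΩ
    obtain ⟨T, hT, ⟨e₁⟩, ⟨e₂⟩, ⟨e₃⟩⟩ := exists_forms_seq (A := k) I hover hJ hΩ hW b hE hWb hW'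
    obtain ⟨e⟩ := TMul.nonempty_pullPowIso I.subschemeι P (r + 1)
    have hmid : Subsingleton (Coh.HH I.subscheme (CohB1.tensorMod T.X₂
        (CohB1.tensorPow ((Scheme.Modules.pullback I.subschemeι).obj P) (r + 1))) (a + 1)) := by
      refine CohQC.hh_subsingleton_of_iso ((Groth.Agent.KFlat.pullTensorIso I.subschemeι _ _).symm ≪≫
        PicGrp.tensorModIso e₂.symm e.symm) (a + 1) ?_
      refine res_vanish (A := k) I hover _ (DerPerf.isFinLocFree_tensor (isFinLocFree_extSh _ _ hΩ)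
        (isFinLocFree_pow hPi (r + 1))) (a + 1) (hpos (r + 1) (b + 1) (a + 1) (by omega) (by omega) _ hE) ?_
      refine CohQC.hh_subsingleton_of_iso ?_ (a + 1 + 1) (hpos r (b + 1) (a + 1 + 1) hr (by omega) _ hE)
      exact (SecTwist.unitorR _).symm ≪≫ PicGrp.tensorModIso (Iso.refl _) w.symm ≪≫
        TMul.commIso _ _ ≪≫ TMul.assocIso _ _ _ ≪≫ PicGrp.tensorModIso (Iso.refl _)
          (TMul.commIso _ _ ≪≫ TMul.assocIso _ _ _)
    have hl := subsingleton_left k (PnReg.shortExact_tensor (isFinLocFree_pow hN (r + 1)) hT) (a + 1) hmid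
      (fun j hj => CohQC.hh_subsingleton_of_iso (PicGrp.tensorModIso e₃.symm (Iso.refl _)) j (by
        obtain rfl : j = a := by omega
        exact ih (b + 1) (r + 1) (by omega) (by omega) W' hW'))
    refine CohQC.hh_subsingleton_of_iso ?_ (a + 1) hl
    -- `(N ⊗ W) ⊗ P^(r+1) ≅ W ⊗ P^r`
    exact PicGrp.tensorModIso (e₁ ≪≫ TMul.commIso _ _) (TMul.commIso _ _) ≪≫ TMul.assocIso _ _ _ ≪≫
      PicGrp.tensorModIso (Iso.refl W) ((TMul.assocIso _ _ _).symm ≪≫ PicGrp.tensorModIso wY (Iso.refl _) ≪≫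
        TMul.leftUnitIso _)

end Groth.Agent.HodgeCI
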