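import Groth.Agent.HodgeCI.CIFacts

/-!
# Structure sheaf cohomology of smooth hypersurfaces of small degree
-/

set_option autoImplicit false
set_option backward.isDefEq.respectTransparency false
set_option backward.isDefEq.respectTransparency.types false
set_option linter.style.haveILetI false
set_option linter.unusedSectionVars false
set_option maxHeartbeats 1000000

universe u

open CategoryTheory CategoryTheory.Limits AlgebraicGeometry TopologicalSpace Opposite

noncomputable section

namespace Groth.Agent.HodgeCI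

variable {k : Type u} [Field k] {n : ℕ}

theorem hypIdeal_facts (hn : 1 ≤ n) {e : ℕ} (he : 1 ≤ e) (hen : e ≤ n + 1) (Q : LefPen.Form (n + 1) k e)
    [SmoothOfRelativeDimension n ((LefPen.hypIdeal Q).subschemeι ≫ CohB1.ProjSpace.toSpec (n + 1) k)] :
    (∀ i : ℕ, 1 ≤ i → Subsingleton (Coh.HH (LefPen.hypIdeal Q).subscheme
        (Coh.structureModule (LefPen.hypIdeal Q).subscheme) i)) ∧
      Function.Bijective ((LefPen.hypIdeal Q).subschemeι ≫ CohB1.ProjSpace.toSpec (n + 1) k).appTop.hom := by
  let a : Fin 1 → ℕ := fun _ => e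
  let G : ∀ j : Fin 1, LefPen.Form (n + 1) k (a j) := fun _ => Q
  have hI : LefPen.ciIdeal G = LefPen.hypIdeal Q := ciSup_unique
  haveI : SmoothOfRelativeDimension n ((LefPen.ciIdeal G).subschemeι ≫ CohB1.ProjSpace.toSpec (n + 1) k) := by
    rw [hI]; infer_instance
  have hci := isCI_of_smooth (n := n) (d := 1) (a := a) (fun _ => he) G
  have hgood := good_of_smooth (n := n) (d := 1) (a := a) (fun _ => he) G
  have hQ : Q ≠ 0 := hci.last_ne_zero (r := 0)
  haveI := hci.nonempty
  refine ⟨fun i hi => ?_, ?_⟩
  · obtain ⟨t⟩ := PlaneCurve.nonempty_ideal_iso_twist Q hQ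
    obtain ⟨o⟩ : Nonempty (Twist.twistProjSpace (n + 1) k 0 ≅ Coh.structureModule (CohB1.ProjSpace (n + 1) k)) :=
      GrT.nonempty_twist_zero_iso (𝒜 := CohB1.polyGrading (n + 1) k)
    haveI : (Coh.structureModule (LefPen.hypIdeal Q).subscheme).IsQuasicoherent := Groth.Agent.QC.isQCoh_unit _
    refine (CompInt.hh_push_iff (LefPen.hypIdeal Q).subschemeι (CohB1.ProjSpace.toSpec (n + 1) k) _ i).2 ?_
    refine CohFinite.subsingleton_of_shortExact (CurveRR.ideal_shortExact (LefPen.hypIdeal Q)) i ?_ ?_
    · exact CohQC.hh_subsingleton_of_iso o i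
        (ProjCech.twist_vanish (R := k) (n + 1) 0 i (fun h => by omega) (fun h => by omega))
    · exact CohQC.hh_subsingleton_of_iso t.symm (i + 1)
        (ProjCech.twist_vanish (R := k) (n + 1) _ (i + 1) (fun h => by omega) (fun h => by omega))
  · have h := bijective_appTop_comp (LefPen.ciIdeal G).subschemeι hgood hn
    clear_value G
    clear hgood hci
    revert h
    rw [hI]
    exact fun h => h

end Groth.Agent.HodgeCI
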